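import Mathlib.Algebra.Homology.DerivedCategory.ShortExact
import Mathlib.Algebra.Homology.HomotopyCategory.MappingCocone
import Mathlib.CategoryTheory.Limits.Preserves.Shapes.Kernels

/-!
Finite resolutions of complexes by a class of objects, from a functorial embedding.
-/

set_option autoImplicit false
set_option linter.style.haveILetI false
set_option backward.defeqAttrib.useBackward true
set_option backward.isDefEq.respectTransparency false
set_option backward.isDefEq.respectTransparency.types false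

universe w v u

open CategoryTheory CategoryTheory.Limits Pretriangulated

noncomputable section

namespace Groth.L17.HTorRG.Res

variable {A : Type u} [Category.{v} A] [Abelian A]

local notation "c" => ComplexShape.up ℤ

/-- Five lemma for short exact sequences of complexes. -/
theorem quasiIso_τ₁ {S₁ S₂ : ShortComplex (CochainComplex A ℤ)} (h₁ : S₁.ShortExact) (h₂ : S₂.ShortExact)
    (φ : S₁ ⟶ S₂) [QuasiIso φ.τ₂] [QuasiIso φ.τ₃] : QuasiIso φ.τ₁ := by
  letI := HasDerivedCategory.standard A
  refine (DerivedCategory.isIso_Q_map_iff_quasiIso (C := A) _).1 ?_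
  exact Pretriangulated.isIso₁_of_isIso₂₃ (DerivedCategory.triangleOfSES.map h₁ h₂ φ)
    (DerivedCategory.triangleOfSES_distinguished h₁) (DerivedCategory.triangleOfSES_distinguished h₂)
    ((DerivedCategory.isIso_Q_map_iff_quasiIso (C := A) φ.τ₂).2 inferInstance)
    ((DerivedCategory.isIso_Q_map_iff_quasiIso (C := A) φ.τ₃).2 inferInstance)

/-- Adding the cocone of an identity does not change cohomology. -/
theorem quasiIso_inl (K L : CochainComplex A ℤ) :
    QuasiIso (biprod.inl : K ⟶ K ⊞ CochainComplex.mappingCocone (𝟙 L)) := by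
  letI := HasDerivedCategory.standard A
  refine (DerivedCategory.isIso_Q_map_iff_quasiIso (C := A) _).1
    ⟨DerivedCategory.Q.map biprod.fst, ?_, ?_⟩
  · rw [← Functor.map_comp, biprod.inl_fst, CategoryTheory.Functor.map_id]
  · have hc : IsZero (DerivedCategory.Q.obj (CochainComplex.mappingCone (𝟙 L))) :=
      ((Functor.map_isZero DerivedCategory.Qh ((HomotopyCategory.isZero_quotient_obj_iff _).2
        ⟨CochainComplex.mappingCone.homotopyToZeroOfId L⟩))).of_iso
          ((DerivedCategory.quotientCompQhIso A).app _).symm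
    have hz : IsZero (DerivedCategory.Q.obj (CochainComplex.mappingCocone (𝟙 L))) :=
      ((shiftFunctor (DerivedCategory A) (-1 : ℤ)).map_isZero hc).of_iso
        ((DerivedCategory.Q.commShiftIso (-1 : ℤ)).app (CochainComplex.mappingCone (𝟙 L)))
    have h0 : DerivedCategory.Q.map ((biprod.snd : K ⊞ CochainComplex.mappingCocone (𝟙 L) ⟶ _) ≫ (biprod.inr : _ ⟶ K ⊞ CochainComplex.mappingCocone (𝟙 L))) = 0 := by
      rw [Functor.map_comp, hz.eq_of_tgt (DerivedCategory.Q.map biprod.snd) 0, zero_comp]
    rw [← Functor.map_comp, ← CategoryTheory.Functor.map_id]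
    conv_rhs => rw [← biprod.total, Functor.map_add, h0, add_zero]

theorem isZero_cocone_X {K L : CochainComplex A ℤ} (φ : K ⟶ L) (n : ℤ) (hK : IsZero (K.X n))
    (hL : IsZero (L.X (n - 1))) : IsZero ((CochainComplex.mappingCocone φ).X n) := by
  show IsZero ((CochainComplex.mappingCone φ).X (n + -1))
  rw [show n + -1 = n - 1 by omega, CochainComplex.mappingCone.isZero_X_iff]
  rw [show n - 1 + 1 = n by omega]
  exact ⟨hK, hL⟩

/-- A class closed under isomorphisms, biproducts and retracts. -/
structure Adm (P : A → Prop) : Prop where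
  zero : ∀ X, IsZero X → P X
  biprod : ∀ X Y, P X → P Y → P (X ⊞ Y)
  retract : ∀ X Y (i : X ⟶ Y) (r : Y ⟶ X), i ≫ r = 𝟙 X → P Y → P X

theorem Adm.of_iso {P : A → Prop} (hP : Adm P) {X Y : A} (e : X ≅ Y) (h : P X) : P Y :=
  hP.retract Y X e.inv e.hom e.inv_hom_id h

variable {C : A ⥤ A} [C.Additive] (η : 𝟭 A ⟶ C) [∀ X, Mono (η.app X)]

/-- The cokernel functor. -/
@[simps]
def next : A ⥤ A where
  obj X := cokernel (η.app X)
  map {X Y} φ := cokernel.map _ _ φ (C.map φ) (η.naturality φ).symm

omit [∀ X, Mono (η.app X)] in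
instance additive_next : (next η).Additive where
  map_add {X Y a b} := by
    rw [← cancel_epi (cokernel.π (η.app X))]
    simp [next, Functor.map_add]

/-- The augmentation of complexes. -/
abbrev ηCx (K : CochainComplex A ℤ) : K ⟶ (C.mapHomologicalComplex c).obj K where
  f n := η.app (K.X n)
  comm' i j _ := (η.naturality (K.d i j)).symm

/-- The projection of complexes. -/
abbrev πCx (K : CochainComplex A ℤ) : (C.mapHomologicalComplex c).obj K ⟶ ((next η).mapHomologicalComplex c).obj K where
  f n := cokernel.π (η.app (K.X n))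
  comm' i j _ := by simp [next]

omit [∀ X, Mono (η.app X)] in
theorem ηπ (K : CochainComplex A ℤ) : ηCx η K ≫ πCx η K = 0 := by ext n; simp

theorem shortExact_seq (K : CochainComplex A ℤ) : (ShortComplex.mk _ _ (ηπ η K)).ShortExact := by
  refine HomologicalComplex.shortExact_of_degreewise_shortExact _ fun n => ?_
  exact { exact := ShortComplex.exact_of_g_is_cokernel _ (cokernelIsCokernel (η.app (K.X n)))
          mono_f := inferInstanceAs (Mono (η.app (K.X n)))
          epi_g := inferInstanceAs (Epi (cokernel.π (η.app (K.X n)))) }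

variable (P : A → Prop) (hP : Adm P)

/-- The conclusion at a given length. -/
def HasRes (k : ℕ) (K : CochainComplex A ℤ) : Prop :=
  ∃ (T : CochainComplex A ℤ) (s : K ⟶ T), QuasiIso s ∧ (∀ n, P (T.X n)) ∧
    (∀ a : ℤ, (∀ n, n < a → IsZero (K.X n)) → ∀ n, n < a → IsZero (T.X n)) ∧
    ∀ b : ℤ, (∀ n, b < n → IsZero (K.X n)) → ∀ n, b + k < n → IsZero (T.X n)

include hP in
/-- One step. -/
theorem hasRes_succ (k : ℕ) (K : CochainComplex A ℤ) (hC : ∀ n, P (C.obj (K.X n)))
    (h : HasRes P k (((next η).mapHomologicalComplex c).obj K)) : HasRes P (k + 1) K := by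
  obtain ⟨T', s', hs', hT', ha', hb'⟩ := h
  haveI := hs'
  let CK := (C.mapHomologicalComplex c).obj K
  let Kc := CochainComplex.mappingCocone (𝟙 T')
  let φ : CK ⟶ T' := πCx η K ≫ s'
  let g : CK ⊞ Kc ⟶ T' := biprod.desc φ (CochainComplex.mappingCocone.fst (𝟙 T'))
  have hsec : ∀ n, ((CochainComplex.mappingCocone.inl (𝟙 T')).v n n (add_zero n) ≫
      (biprod.inr : Kc ⟶ CK ⊞ Kc).f n) ≫ g.f n = 𝟙 _ := fun n => by
    rw [Category.assoc, ← HomologicalComplex.comp_f, biprod.inr_desc, CochainComplex.mappingCocone.inl_v_fst_f]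
  have hge : ∀ n, Epi (g.f n) := fun n => (IsSplitEpi.mk' ⟨_, hsec n⟩).epi
  haveI : Epi g := @HomologicalComplex.epi_of_epi_f _ _ _ _ _ _ _ g hge
  let T := kernel g
  have hS₂ : (ShortComplex.mk (kernel.ι g) g (kernel.condition g)).ShortExact :=
    { exact := ShortComplex.exact_kernel g }
  have h0 : (ηCx η K ≫ biprod.inl) ≫ g = 0 := by
    rw [Category.assoc, biprod.inl_desc, ← Category.assoc, ηπ, zero_comp]
  let ψ : ShortComplex.mk _ _ (ηπ η K) ⟶ ShortComplex.mk (kernel.ι g) g (kernel.condition g) :=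
    ShortComplex.homMk (kernel.lift g _ h0) biprod.inl s' (kernel.lift_ι g _ h0) (biprod.inl_desc _ _)
  haveI : QuasiIso ψ.τ₂ := quasiIso_inl CK T'
  haveI : QuasiIso ψ.τ₃ := hs'
  refine ⟨T, ψ.τ₁, quasiIso_τ₁ (shortExact_seq η K) hS₂ ψ, fun n => ?_,
    fun a ha n hn => ?_, fun b hb n hn => ?_⟩
  · let σ := (CochainComplex.mappingCocone.inl (𝟙 T')).v n n (add_zero n) ≫ (biprod.inr : Kc ⟶ CK ⊞ Kc).f n
    haveI := hge n
    have hk : IsLimit (KernelFork.ofι ((kernel.ι g).f n) (f := g.f n) (by
        rw [← HomologicalComplex.comp_f, kernel.condition]; rfl)) :=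
      KernelFork.mapIsLimit _ (kernelIsKernel g) (HomologicalComplex.eval A c n)
    obtain ⟨r, hr⟩ := KernelFork.IsLimit.lift' hk (𝟙 _ - g.f n ≫ σ) (by
      rw [Preadditive.sub_comp, Category.assoc, hsec, Category.comp_id, Category.id_comp, sub_self])
    change r ≫ (kernel.ι g).f n = _ at hr
    refine hP.retract _ ((CK ⊞ Kc).X n) ((kernel.ι g).f n) r ?_ ?_
    · haveI : Mono ((kernel.ι g).f n) := mono_of_isLimit_fork hk
      rw [← cancel_mono ((kernel.ι g).f n), Category.assoc, hr, Preadditive.comp_sub, Category.comp_id,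
        ← Category.assoc, ← HomologicalComplex.comp_f, kernel.condition, HomologicalComplex.zero_f, zero_comp,
        sub_zero, Category.id_comp]
    · refine hP.of_iso (HomologicalComplex.biprodXIso CK Kc n).symm (hP.biprod _ _ (hC n) ?_)
      exact hP.of_iso
        (HomologicalComplex.homotopyCofiber.XIsoBiprod (𝟙 T') (n + -1) (n + -1 + 1) rfl).symm
        (hP.biprod _ _ (hT' _) (hT' _))
  · have h2 := ha' a fun m hm => (next η).map_isZero (ha m hm)
    refine IsZero.of_mono ((kernel.ι g).f n) (IsZero.of_iso ?_ (HomologicalComplex.biprodXIso CK Kc n))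
    refine (biprod_isZero_iff _ _).2 ⟨C.map_isZero (ha n hn), ?_⟩
    exact isZero_cocone_X (𝟙 T') n (h2 n hn) (h2 (n - 1) (by omega))
  · have hN : ∀ m, b < m → IsZero ((((next η).mapHomologicalComplex c).obj K).X m) := fun m hm =>
      (next η).map_isZero (hb m hm)
    have h2 := hb' b hN
    refine IsZero.of_mono ((kernel.ι g).f n) (IsZero.of_iso ?_ (HomologicalComplex.biprodXIso CK Kc n))
    refine (biprod_isZero_iff _ _).2 ⟨C.map_isZero (hb n (by omega)), ?_⟩
    exact isZero_cocone_X (𝟙 T') n (h2 n (by push_cast at hn ⊢; omega)) (h2 (n - 1) (by push_cast at hn ⊢; omega))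

include hP in
/-- The resolution, from a filtration of the admissible objects. -/
theorem hasRes (G : ℕ → A → Prop) (h0 : ∀ X, G 0 X → P X) (hC : ∀ k X, G (k + 1) X → P (C.obj X))
    (hN : ∀ k X, G (k + 1) X → G k (cokernel (η.app X))) :
    ∀ (k : ℕ) (K : CochainComplex A ℤ), (∀ n, G k (K.X n)) → HasRes P k K := by
  intro k
  induction k with
  | zero => exact fun K hK => ⟨K, 𝟙 K, inferInstance, fun n => h0 _ (hK n), fun _ ha => ha, fun b hb n hn => hb n (by simpa using hn)⟩
  | succ k ih => exact fun K hK => hasRes_succ η P hP k K (fun n => hC k _ (hK n)) (ih _ fun n => hN k _ (hK n))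

end Groth.L17.HTorRG.Res
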