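import Groth.Agent.L17.Kun.AffCover
import Groth.Agent.L17.Kun.Step
import Groth.Agent.L17.HTor.Res
import Groth.Agent.L17.CoverVanishing
import Groth.Agent.L17.QCohExtension
import Groth.Agent.L29.DCoh.RelBC

/-!
Resolutions of complexes of quasi-coherent modules by acyclic ones, of bounded length.
-/

set_option autoImplicit false
set_option linter.style.haveILetI false
set_option linter.unusedSectionVars false
set_option backward.isDefEq.respectTransparency false
set_option backward.isDefEq.respectTransparency.types false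

universe u

open CategoryTheory CategoryTheory.Limits AlgebraicGeometry TopologicalSpace Opposite Abelian

noncomputable section

namespace Groth.L17.HTorRG.Acyc

open Groth.L16.CohLinear (hmap tm hmap_comp hmap_id)

variable {X S : Scheme.{u}}

theorem isQCoh_biprod {M N : X.Modules} (hM : Coh.IsQCoh M) (hN : Coh.IsQCoh N) : Coh.IsQCoh (M ⊞ N) :=
  Groth.L17.QCohExtension.isQCoh_extension (ShortComplex.mk biprod.inl biprod.snd (by simp))
    (ShortComplex.Splitting.shortExact
      { r := biprod.fst, s := biprod.inr, f_r := biprod.inl_fst, s_g := biprod.inr_snd, id := biprod.total })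
    hM hN

theorem isQCoh_retract {M N : X.Modules} (i : M ⟶ N) (r : N ⟶ M) (h : i ≫ r = 𝟙 M) (hN : Coh.IsQCoh N) :
    Coh.IsQCoh M := by
  haveI := hN
  haveI := Groth.L16.Devissage.isQCoh_cokernel (𝟙 N - r ≫ i)
  let e : cokernel (𝟙 N - r ≫ i) ≅ M :=
    { hom := cokernel.desc _ r (by rw [Preadditive.sub_comp, Category.assoc, h, Category.comp_id, Category.id_comp, sub_self])
      inv := i ≫ cokernel.π _
      hom_inv_id := by
        rw [← cancel_epi (cokernel.π (𝟙 N - r ≫ i))]
        rw [cokernel.π_desc_assoc, Category.comp_id, ← Category.assoc]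
        have h0 := cokernel.condition (𝟙 N - r ≫ i)
        rw [Preadditive.sub_comp, Category.id_comp, sub_eq_zero] at h0
        exact h0.symm
      inv_hom_id := by rw [Category.assoc, cokernel.π_desc, h] }
  exact Groth.L29.DC.isQCoh_of_iso' e inferInstance

theorem isFlatOver_retract (f : X ⟶ S) {M N : X.Modules} (i : M ⟶ N) (r : N ⟶ M) (h : i ≫ r = 𝟙 M)
    (hN : FlatMod.IsFlatOver f N) : FlatMod.IsFlatOver f M := fun x => by
  let T := Groth.L00.Stk.F X x ⋙ ModuleCat.restrictScalars (f.stalkMap x).hom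
  haveI : Module.Flat (S.presheaf.stalk (f x)) (T.obj N) := hN x
  exact (Module.Flat.of_retract (T.map i).hom (T.map r).hom
    (congrArg ModuleCat.Hom.hom (show T.map i ≫ T.map r = 𝟙 _ by rw [← T.map_comp, h, T.map_id])) :
      Module.Flat (S.presheaf.stalk (f x)) (T.obj M))

theorem isQCoh_of_isZero {N : X.Modules} (h : IsZero N) : Coh.IsQCoh N := by
  refine Groth.L00.Local.isQCoh_of_tilde_charts _ fun x => ?_
  obtain ⟨_, ⟨V, hV, rfl⟩, hxV, -⟩ :=
    X.isBasis_affineOpens.exists_subset_of_mem_open (Set.mem_univ x) isOpen_univ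
  refine ⟨_, hV.fromSpec, inferInstance, ModuleCat.of Γ(X, V) PUnit.{u + 1}, hV.opensRange_fromSpec.ge hxV,
    ⟨((Scheme.Modules.restrictFunctor hV.fromSpec).map_isZero h).iso ((tilde.functor Γ(X, V)).map_isZero ?_)⟩⟩
  exact ModuleCat.isZero_of_subsingleton _

/-- No higher cohomology. -/
def IsAcyc (Z : X.Modules) : Prop := ∀ i : ℕ, Subsingleton (Coh.HH X Z (i + 1))

theorem acyc_retract {M N : X.Modules} (i : M ⟶ N) (r : N ⟶ M) (h : i ≫ r = 𝟙 M) (hN : IsAcyc N) : IsAcyc M :=
  fun n => subsingleton_of_forall_eq 0 fun x => by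
    haveI := hN n
    rw [← hmap_id (n + 1) x, ← h, hmap_comp, Subsingleton.elim (hmap i (n + 1) x) 0, map_zero]

theorem tm_add {M N : X.Modules} (f g : M ⟶ N) : tm (f + g) = tm f + tm g := Functor.map_add _

theorem hmap_add {M N : X.Modules} (f g : M ⟶ N) (n : ℕ) (x : Coh.HH X M n) :
    hmap (f + g) n x = hmap f n x + hmap g n x := by
  rw [Groth.L16.CohLinear.hmap_apply, Groth.L16.CohLinear.hmap_apply, Groth.L16.CohLinear.hmap_apply]
  simp only [Groth.L16.CohLinear.hMap_apply]
  exact (congrArg (fun k => x.comp (Ext.mk₀ k) (add_zero n)) (tm_add f g)).trans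
    (by rw [Ext.mk₀_add, Ext.comp_add])

theorem acyc_zero {M : X.Modules} (h : IsZero M) : IsAcyc M := fun n => subsingleton_of_forall_eq 0 fun x => by
  have := hmap_add (𝟙 M) (𝟙 M) (n + 1) x
  rw [show 𝟙 M + 𝟙 M = 𝟙 M from h.eq_of_src _ _, hmap_id, left_eq_add] at this
  exact this

theorem acyc_biprod {M N : X.Modules} (hM : IsAcyc M) (hN : IsAcyc N) : IsAcyc (M ⊞ N) := fun n =>
  subsingleton_of_forall_eq 0 fun x => by
    haveI := hM n
    haveI := hN n
    rw [← hmap_id (n + 1) x, ← biprod.total, hmap_add, hmap_comp, hmap_comp,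
      Subsingleton.elim (hmap biprod.fst (n + 1) x) 0, Subsingleton.elim (hmap biprod.snd (n + 1) x) 0,
      map_zero, map_zero, add_zero]

/-- Acyclic members of a class of quasi-coherent modules. -/
structure Cls (F : X.Modules → Prop) (Z : X.Modules) : Prop where
  qcoh : Coh.IsQCoh Z
  extra : F Z
  acyc : IsAcyc Z

/-- The condition on the extra property. -/
structure Extra (F : X.Modules → Prop) : Prop where
  zero : ∀ M : X.Modules, IsZero M → F M
  biprod : ∀ M N : X.Modules, F M → F N → F (M ⊞ N)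
  retract : ∀ (M N : X.Modules) (i : M ⟶ N) (r : N ⟶ M), i ≫ r = 𝟙 M → F N → F M
  push : ∀ {W : Scheme.{u}} (q : W ⟶ X) [IsAffineHom q], Kun.IsCover q → ∀ Z : X.Modules, Coh.IsQCoh Z →
    F Z → F ((Scheme.Modules.pushforward q).obj ((Scheme.Modules.pullback q).obj Z))
  coker : ∀ {W : Scheme.{u}} (q : W ⟶ X) [IsAffineHom q], Kun.IsCover q → ∀ Z : X.Modules, Coh.IsQCoh Z →
    F Z → F (cokernel (Kun.η q Z))

theorem extra_true : Extra (fun _ : X.Modules => True) :=
  ⟨fun _ _ => trivial, fun _ _ _ _ => trivial, fun _ _ _ _ _ _ => trivial, fun _ _ _ _ _ _ => trivial,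
    fun _ _ _ _ _ _ => trivial⟩

theorem extra_flat {A : Type u} [CommRing A] (f : X ⟶ Spec (CommRingCat.of A)) :
    Extra (FlatMod.IsFlatOver f) where
  zero _ h := Groth.L29.DC.RelBC.isFlatOver_zero f h
  biprod _ _ h h' := Groth.L29.DC.RelBC.isFlatOver_biprod f h h'
  retract _ _ i r h hN := isFlatOver_retract f i r h hN
  push q _ hq Z hZ h := haveI := hZ; Kun.isFlatOver_push_pull q f hq Z h
  coker q _ hq Z hZ h := haveI := hZ; Kun.isFlatOver_cokernel q f hq Z h

variable {A : Type u} [CommRing A] (f : X ⟶ Spec (CommRingCat.of A)) [QuasiCompact f] [IsSeparated f]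

include f in
/-- Vanishing above the number of opens in an affine cover. -/
theorem subsingleton_of_cover (N : ℕ) (U : Fin (N + 1) → X.Opens) (hU : ∀ i, IsAffineOpen (U i))
    (hcov : ⨆ i, U i = ⊤) (M : X.Modules) [Coh.IsQCoh M] (i : ℕ) (hi : N < i) : Subsingleton (Coh.HH X M i) := by
  refine Groth.L17.subsingleton_HH_of_affine_cover (N + 1) U hcov (fun s hs => ?_) M i hi
  induction hs using Finset.Nonempty.cons_induction with
  | singleton a => simpa using hU a
  | cons a s ha hs ih =>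
    rw [Finset.inf_cons]
    exact Kun.isAffineOpen_inf f (hU a) ih

include f in
/-- An affine cover bounding cohomology. -/
theorem exists_cover : ∃ (N : ℕ) (U : Fin (N + 1) → X.Opens), (∀ i, IsAffineOpen (U i)) ∧ ⨆ i, U i = ⊤ := by
  haveI : CompactSpace X := QuasiCompact.compactSpace_of_compactSpace f
  obtain ⟨t, U, hcov, haff⟩ := Kun.exists_cover f
  refine ⟨t, Fin.lastCases ⊥ (fun i => U ⟨i⟩), fun i => ?_, top_unique (hcov.ge.trans (iSup_le fun i => ?_))⟩
  · induction i using Fin.lastCases with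
    | last => simpa using isAffineOpen_bot X
    | cast j =>
      have := haff 0 fun _ => ⟨j⟩
      simpa using this
  · refine le_trans ?_ (le_iSup _ i.down.castSucc)
    simp

include f in
/-- The resolution. -/
theorem exists_res {F : X.Modules → Prop} (hF : Extra F) (N : ℕ)
    (hN : ∀ (M : X.Modules) [Coh.IsQCoh M] (i : ℕ), N < i → Subsingleton (Coh.HH X M i))
    (P : CochainComplex X.Modules ℤ) (hq : ∀ n, Coh.IsQCoh (P.X n)) (hP : ∀ n, F (P.X n)) :
    ∃ (T : CochainComplex X.Modules ℤ) (s : P ⟶ T), QuasiIso s ∧ (∀ n, Cls F (T.X n)) ∧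
      (∀ a : ℤ, (∀ n, n < a → IsZero (P.X n)) → ∀ n, n < a → IsZero (T.X n)) ∧
      ∀ b : ℤ, (∀ n, b < n → IsZero (P.X n)) → ∀ n, b + N < n → IsZero (T.X n) := by
  haveI : CompactSpace X := QuasiCompact.compactSpace_of_compactSpace f
  letI : X.Over (Spec (CommRingCat.of A)) := ⟨f⟩
  haveI : IsAffineHom (pullback.diagonal (X ↘ Spec (CommRingCat.of A))) :=
    (inferInstance : IsAffineHom (pullback.diagonal f))
  haveI : QuasiSeparatedSpace X := quasiSeparatedSpace_of_quasiSeparated f
  obtain ⟨W, hW, q, hqa, hq'⟩ := Kun.exists_affine_isCover f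
  let C := Scheme.Modules.pullback q ⋙ Scheme.Modules.pushforward q
  let η := (Scheme.Modules.pullbackPushforwardAdjunction q).unit
  haveI : ∀ Z, Mono (η.app Z) := fun Z => Kun.mono_η hq' Z
  let G : ℕ → X.Modules → Prop := fun k Z => Coh.IsQCoh Z ∧ F Z ∧ ∀ i, k < i → Subsingleton (Coh.HH X Z i)
  have hadm : Res.Adm (Cls F) :=
    { zero := fun M h => ⟨isQCoh_of_isZero h, hF.zero M h, acyc_zero h⟩
      biprod := fun M N' hM hN' => ⟨isQCoh_biprod hM.qcoh hN'.qcoh, hF.biprod _ _ hM.extra hN'.extra,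
        acyc_biprod hM.acyc hN'.acyc⟩
      retract := fun M N' i r h hN' => ⟨isQCoh_retract i r h hN'.qcoh, hF.retract _ _ i r h hN'.extra,
        acyc_retract i r h hN'.acyc⟩ }
  refine Res.hasRes (C := C) η (Cls F) hadm G (fun Z h => ⟨h.1, h.2.1, fun i => h.2.2 (i + 1) (Nat.succ_pos i)⟩)
    (fun k Z h => ?_) (fun k Z h => ?_) N P fun n => ⟨hq n, hP n, fun i hi => haveI := hq n; hN _ i hi⟩
  · haveI := h.1
    haveI := Groth.L16.AffineBC.isQCoh_pullback q Z
    exact ⟨Kun.isQCoh_push_pull q Z, hF.push q hq' Z h.1 h.2.1, fun i => Kun.subsingleton_HH_push _ i⟩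
  · haveI := h.1
    haveI := Kun.isQCoh_push_pull q Z
    refine ⟨Groth.L16.Devissage.isQCoh_cokernel (Kun.η q Z), hF.coker q hq' Z h.1 h.2.1, fun i hi => ?_⟩
    obtain ⟨p, rfl⟩ : ∃ p, i = p + 1 := ⟨i - 1, by omega⟩
    haveI := h.2.2 (p + 2) (by omega)
    exact (Equiv.ofBijective _ (Kun.bijective_delta hq' Z p)).subsingleton

end Groth.L17.HTorRG.Acyc
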