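import Groth.Agent.L29.DCoh.RpushAcyclic
import Groth.Agent.L29.DCoh.TildeD
import Groth.Agent.L29.DCoh.RpushProj
import Groth.Agent.L00.KLimp.Basic
import Groth.Prelude.Def_HTor

/-!
Complexes of acyclic quasi-coherent modules compute `RΓ` with values in `D(A)`.
-/

set_option autoImplicit false
set_option linter.style.haveILetI false
set_option backward.defeqAttrib.useBackward true
set_option backward.isDefEq.respectTransparency false
set_option backward.isDefEq.respectTransparency.types false

universe u

open CategoryTheory CategoryTheory.Limits AlgebraicGeometry Opposite TopologicalSpace DerivedCategory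

attribute [local instance] HasDerivedCategory.standard
attribute [local instance] Groth.L00.KLimp.additive_push

noncomputable section

namespace Groth.L17.HTorRG

open Groth.L10

local notation "c" => ComplexShape.up ℤ

variable {R : CommRingCat.{u}}

/-- `Γ` on `Spec R`, forgetting the module structure. -/
def forgetΓIso : moduleSpecΓFunctor (R := R) ⋙ forget₂ (ModuleCat.{u} R) AddCommGrpCat.{u} ≅
    DCoh.gammaAb (Spec R) :=
  NatIso.ofComponents (fun _ => Iso.refl _) (fun _ => rfl)

instance additive_Γ : (moduleSpecΓFunctor (R := R)).Additive := tilde.adjunction.right_adjoint_additive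

theorem quasiIso_of_natIso {C D : Type*} [Category C] [Category D] [Abelian C] [Abelian D] {F G : C ⥤ D} [F.Additive]
    [G.Additive] (e : F ≅ G) {K L : CochainComplex C ℤ} (φ : K ⟶ L)
    (h : QuasiIso ((G.mapHomologicalComplex c).map φ)) : QuasiIso ((F.mapHomologicalComplex c).map φ) :=
  haveI := h
  quasiIso_of_arrow_mk_iso ((G.mapHomologicalComplex c).map φ) _ (Arrow.isoMk ((NatIso.mapHomologicalComplex e c).app K)
    ((NatIso.mapHomologicalComplex e c).app L)
    ((NatIso.mapHomologicalComplex e c).hom.naturality φ).symm).symm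

/-- On an affine scheme, sections of a quasi-isomorphism from quasi-coherent terms into a K-injective complex. -/
theorem quasiIso_Γ_of_qcoh {T K : CochainComplex (Spec R).Modules ℤ} (w : T ⟶ K) [QuasiIso w]
    [hK : K.IsKInjective] (hT : ∀ n, Coh.IsQCoh (T.X n)) :
    QuasiIso (((moduleSpecΓFunctor (R := R)).mapHomologicalComplex c).map w) := by
  let F := tilde.functor R
  let G := moduleSpecΓFunctor (R := R)
  haveI := Groth.L18.TildeF.tilde_preservesFiniteLimits (R := R)
  haveI : QuasiIso (Groth.L29.DC.DerAdj.εI tilde.adjunction K) :=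
    Groth.L29.DC.TildeD.quasiIso_ε K hK fun i => (Groth.L29.DC.TildeD.isQCoh_iff_essImage _).1
      (Groth.L29.DC.isQCoh_of_iso' (asIso (HomologicalComplex.homologyMap w i))
        (Groth.L29.DC.PCQCoh.isQCoh_homology hT i))
  haveI : ∀ n, IsIso ((Groth.L29.DC.DerAdj.εI tilde.adjunction T).f n) := fun n =>
    haveI : (T.X n).IsQuasicoherent := hT n
    Scheme.Modules.isIso_fromTildeΓ_of_isQuasicoherent (T.X n)
  haveI : IsIso (Groth.L29.DC.DerAdj.εI tilde.adjunction T) := HomologicalComplex.Hom.isIso_of_components _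
  have hn : (F.mapHomologicalComplex c).map ((G.mapHomologicalComplex c).map w) ≫
      Groth.L29.DC.DerAdj.εI tilde.adjunction K = Groth.L29.DC.DerAdj.εI tilde.adjunction T ≫ w := by
    refine HomologicalComplex.hom_ext _ _ fun n => ?_
    exact tilde.adjunction.counit.naturality (w.f n)
  haveI : QuasiIso ((F.mapHomologicalComplex c).map ((G.mapHomologicalComplex c).map w) ≫
      Groth.L29.DC.DerAdj.εI tilde.adjunction K) := by
    rw [hn]; infer_instance
  haveI := quasiIso_of_comp_right ((F.mapHomologicalComplex c).map ((G.mapHomologicalComplex c).map w))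
    (Groth.L29.DC.DerAdj.εI tilde.adjunction K)
  exact (HomologicalComplex.quasiIso_map_iff_of_preservesHomology _ F).1 inferInstance

variable {X : Scheme.{u}} (f : X ⟶ Spec R) [QuasiCompact f] [QuasiSeparated f]

/-- Vanishing of `R^i f_*` over an affine base from vanishing cohomology. -/
theorem isZero_Rpush [HasInjectiveResolutions X.Modules] (M : X.Modules) [Coh.IsQCoh M] (i : ℕ)
    (h : Subsingleton (Coh.HH X M i)) : IsZero ((Coh.Rpush f i).obj M) := by
  haveI := Groth.L17.PushQCoh.isQCoh_Rpush f M i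
  have hS : IsAffineOpen (⊤ : (Spec R).Opens) := isAffineOpen_top _
  haveI : ((Coh.Rpush f i).obj M).IsQuasicoherent := ‹Coh.IsQCoh ((Coh.Rpush f i).obj M)›
  refine ((tilde.functor _).map_isZero ?_).of_iso
    (Groth.L18.TildeF.counitIso ((Coh.Rpush f i).obj M)).symm
  refine @ModuleCat.isZero_of_subsingleton _ _ _ ?_
  have h' : ∀ y, y = (0 : (Coh.toAb ((Coh.Rpush f i).obj M)).obj.obj (op (⊤ : (Spec R).Opens))) := fun y => by
    haveI : Subsingleton (Groth.L17.HU (X := X.toTopCat) ⊤ (Coh.toAb M) i) :=
      @Equiv.subsingleton _ _ (Groth.L17.hTopEquiv (X := X.toTopCat) (Coh.toAb M) i).symm.toEquiv h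
    rw [← (Groth.L17.CohSections.equiv f hS M i).apply_symm_apply y]
    exact (congrArg _ (Subsingleton.elim (α := Groth.L17.HU (X := X.toTopCat) ⊤ (Coh.toAb M) i) _ 0)).trans (map_zero _)
  exact subsingleton_of_forall_eq 0 h'

/-- Acyclicity for `f_*`. -/
theorem hac_of_HH [HasInjectiveResolutions X.Modules] (T : CochainComplex X.Modules ℤ)
    (hq : ∀ n, Coh.IsQCoh (T.X n)) (hH : ∀ (n : ℤ) (i : ℕ), Subsingleton (Coh.HH X (T.X n) (i + 1))) :
    ∀ (n : ℤ) (i : ℕ), 0 < i → IsZero ((Coh.Rpush f i).obj (T.X n)) := fun n i hi => by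
  obtain ⟨k, rfl⟩ : ∃ k, i = k + 1 := ⟨i - 1, by omega⟩
  haveI := hq n
  exact isZero_Rpush f _ _ (hH n k)

/-- Global sections of a quasi-isomorphism into a K-injective complex. -/
theorem quasiIso_pushΓ_map {T J : CochainComplex X.Modules ℤ} (q : T ⟶ J) [QuasiIso q] [hJ : J.IsKInjective]
    (hq : ∀ n, Coh.IsQCoh (T.X n)) (hH : ∀ (n : ℤ) (i : ℕ), Subsingleton (Coh.HH X (T.X n) (i + 1))) :
    QuasiIso (((moduleSpecΓFunctor (R := R)).mapHomologicalComplex c).map
      (((Scheme.Modules.pushforward f).mapHomologicalComplex c).map q)) := by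
  haveI := Groth.L17.PushQCoh.hasInjectiveResolutions X
  haveI := Groth.L29.DC.QRlim.enoughKInj X
  haveI := Groth.L29.DC.QRlim.enoughKInj (Spec R)
  haveI := Groth.L29.DC.RpushQC.hasRpush f
  let P := Scheme.Modules.pushforward f
  let η := (DCoh.pushKh f).totalRightDerivedUnit DerivedCategory.Qh (HomotopyCategory.quasiIso X.Modules c)
  haveI := Groth.L29.DC.RpushQC.isIso_unit_of_acyclic f T hq (hac_of_HH f T hq hH)
  haveI : IsIso (η.app ((HomotopyCategory.quotient X.Modules c).obj J)) :=
    KInjDerived.isIso_app_quotient (RF := DCoh.Rpush f) η J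
  let w := (HomotopyCategory.quotient X.Modules c).map q
  haveI : IsIso (DerivedCategory.Qh.map w) :=
    Localization.inverts DerivedCategory.Qh (HomotopyCategory.quasiIso X.Modules c) _
      ((HomotopyCategory.quotient_map_mem_quasiIso_iff q).2 ((HomologicalComplex.mem_quasiIso_iff q).2 inferInstance))
  have hw : IsIso ((DCoh.pushKh f).map w) := by
    have : (DCoh.pushKh f).map w ≫ η.app _ = η.app _ ≫ (DCoh.Rpush f).map (DerivedCategory.Qh.map w) := η.naturality w
    rw [← IsIso.eq_comp_inv] at this
    rw [this]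
    infer_instance
  haveI hqP : QuasiIso ((P.mapHomologicalComplex c).map q) := by
    refine (DerivedCategory.isIso_Q_map_iff_quasiIso (C := (Spec R).Modules) _).1 ?_
    exact (NatIso.isIso_map_iff (DerivedCategory.quotientCompQhIso _) _).1 hw
  obtain ⟨K, v, hK, hv⟩ := KInjDerived.EnoughKInjectives.exists_res ((P.mapHomologicalComplex c).obj J)
  haveI := hK
  haveI := hv
  haveI := quasiIso_Γ_of_qcoh ((P.mapHomologicalComplex c).map q ≫ v)
    (fun n => haveI := hq n; Groth.L16.QcqsPush.isQCoh_push (T.X n) f)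
  haveI : QuasiIso (((moduleSpecΓFunctor (R := R)).mapHomologicalComplex c).map v) := by
    have h1 := Groth.L00.KLimp.gamma_quasiIso v (Groth.L00.KLimp.limp_push f J) (Groth.L00.KLimp.limp_of_isKInjective K)
    haveI : (moduleSpecΓFunctor (R := R) ⋙ forget₂ (ModuleCat.{u} R) AddCommGrpCat.{u}).Additive := inferInstance
    have h2 := quasiIso_of_natIso (forgetΓIso (R := R)) v h1
    exact (HomologicalComplex.quasiIso_map_iff_of_preservesHomology
      (((moduleSpecΓFunctor (R := R)).mapHomologicalComplex c).map v)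
      (forget₂ (ModuleCat.{u} R) AddCommGrpCat.{u})).1 h2
  haveI : QuasiIso (((moduleSpecΓFunctor (R := R)).mapHomologicalComplex c).map
      ((P.mapHomologicalComplex c).map q) ≫
        ((moduleSpecΓFunctor (R := R)).mapHomologicalComplex c).map v) := by
    rw [← Functor.map_comp]; infer_instance
  exact quasiIso_of_comp_right _ (((moduleSpecΓFunctor (R := R)).mapHomologicalComplex c).map v)

section

variable {A : Type u} [CommRing A] {X : Scheme.{u}} (f : X ⟶ Spec (CommRingCat.of A)) [QuasiCompact f]
  [QuasiSeparated f]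

/-- Global sections of a quasi-isomorphism into a K-injective complex. -/
theorem quasiIso_gammaA_map {T J : CochainComplex X.Modules ℤ} (q : T ⟶ J) [QuasiIso q] [J.IsKInjective]
    (hq : ∀ n, Coh.IsQCoh (T.X n)) (hH : ∀ (n : ℤ) (i : ℕ), Subsingleton (Coh.HH X (T.X n) (i + 1))) :
    QuasiIso (((HTor.globalSectionsA f).mapHomologicalComplex c).map q) :=
  quasiIso_pushΓ_map f q hq hH

/-- The complex itself computes `RΓ`. -/
theorem computes [HTor.HasRΓA f] (T : CochainComplex X.Modules ℤ) (hq : ∀ n, Coh.IsQCoh (T.X n))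
    (hH : ∀ (n : ℤ) (i : ℕ), Subsingleton (Coh.HH X (T.X n) (i + 1))) :
    HTor.Computes f (((HTor.globalSectionsA f).mapHomologicalComplex c).obj T) (DCoh.toD X T) := by
  haveI := Groth.L29.DC.QRlim.enoughKInj X
  obtain ⟨J, q, hJ, hqq⟩ := KInjDerived.EnoughKInjectives.exists_res T
  haveI := hJ
  haveI := hqq
  haveI := quasiIso_gammaA_map f q hq hH
  let η := (HTor.gammaAKh f).totalRightDerivedUnit DerivedCategory.Qh (HomotopyCategory.quasiIso X.Modules c)
  haveI : IsIso (η.app ((HomotopyCategory.quotient X.Modules c).obj J)) :=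
    KInjDerived.isIso_app_quotient (RF := HTor.RΓA f) η J
  exact ⟨asIso (DerivedCategory.Q.map (((HTor.globalSectionsA f).mapHomologicalComplex c).map q)) ≪≫
    ((DerivedCategory.quotientCompQhIso (ModuleCat.{u} A)).app _).symm ≪≫
    asIso (η.app ((HomotopyCategory.quotient X.Modules c).obj J)) ≪≫
    (HTor.RΓA f).mapIso ((DerivedCategory.quotientCompQhIso X.Modules).app J) ≪≫
    (HTor.RΓA f).mapIso (asIso (DerivedCategory.Q.map q)).symm⟩

end

end Groth.L17.HTorRG
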