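import Mathlib.CategoryTheory.Abelian.Projective.Dimension
import Groth.Agent.L02.PC.Resolution
import Groth.Agent.L10.DRing.SplitTrunc
import Groth.Agent.L17.HTor.Acyc
import Groth.Agent.L17.HTor.Unit

/-!
Complexes of free or projective modules computing `RΓ`, with bounds.
-/

set_option autoImplicit false
set_option linter.style.haveILetI false
set_option linter.unusedSectionVars false
set_option backward.defeqAttrib.useBackward true
set_option backward.isDefEq.respectTransparency false
set_option backward.isDefEq.respectTransparency.types false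

universe u

open CategoryTheory CategoryTheory.Limits AlgebraicGeometry HomologicalComplex

attribute [local instance] HasDerivedCategory.standard

noncomputable section

namespace Groth.L17.HTorRG.Bounded

variable {A : Type u} [CommRing A]

/-- One step down. -/
theorem pd_step (P : DRing.Cx A) (j k : ℤ) (hjk : j + 1 = k) (hP : Projective (P.X k))
    (h0 : IsZero (P.homology j)) (n : ℕ) (h : HasProjectiveDimensionLT (P.opcycles k) (n + 2)) :
    HasProjectiveDimensionLT (P.opcycles j) (n + 1) := by
  haveI := Groth.L10.SplitTrunc.mono_fromOpcycles_of_isZero P j k hjk h0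
  have hz : P.fromOpcycles j k ≫ P.pOpcycles k = 0 := by
    rw [← cancel_epi (P.pOpcycles j), p_fromOpcycles_assoc, d_pOpcycles, comp_zero]
  have hc : IsColimit (CokernelCofork.ofπ (P.pOpcycles k) hz) :=
    CokernelCofork.IsColimit.ofπ _ _
      (fun {Z} g hg => P.descOpcycles g j ((ComplexShape.up ℤ).prev_eq' (by simpa using hjk)) (by
        rw [← p_fromOpcycles, Category.assoc, hg, comp_zero]))
      (fun g hg => P.p_descOpcycles g j _ _)
      (fun g hg m hm => by rw [← cancel_epi (P.pOpcycles k), p_descOpcycles]; exact hm)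
  have hS : (ShortComplex.mk (P.fromOpcycles j k) (P.pOpcycles k) hz).ShortExact :=
    { exact := ShortComplex.exact_of_g_is_cokernel _ hc
      mono_f := inferInstance
      epi_g := inferInstance }
  exact (hS.hasProjectiveDimensionLT_X₃_iff n hP).mp h

/-- Truncation to bounded projective complexes when the projective dimension is bounded. -/
theorem exists_proj_truncation (d : ℕ) (hA : ∀ M : ModuleCat.{u} A, HasProjectiveDimensionLT M (d + 1))
    (P : DRing.Cx A) (hP : ∀ i, Projective (P.X i)) (a b : ℤ) (hb : ∀ i, b < i → IsZero (P.X i))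
    (h0 : ∀ i, i < a → IsZero (P.homology i)) :
    ∃ L : DRing.Cx A, (∀ i, Module.Projective A (L.X i)) ∧ DRing.VanishesOutside L (a - d) b ∧
      Nonempty (DRing.toD L ≅ DRing.toD P) := by
  have key : ∀ m n : ℕ, n + m = d → HasProjectiveDimensionLT (P.opcycles (a - m)) (n + 1) := by
    intro m
    induction m with
    | zero => intro n hn; rw [show n = d by omega]; exact hA _
    | succ m ih =>
      intro n hn
      exact pd_step P _ (a - m) (by push_cast; omega) (hP _) (h0 _ (by push_cast; omega)) n (ih (n + 1) (by omega))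
  have hop : Projective (P.opcycles (a - d)) :=
    projective_iff_hasProjectiveDimensionLT_one.mpr (key d 0 (by omega))
  haveI : P.IsGE (a - d) := (CochainComplex.isGE_iff _ _).2 fun i hi =>
    (exactAt_iff_isZero_homology _ _).2 (h0 i (by omega))
  let T := P.truncGE (a - d)
  have hT : ∀ i, Projective (T.X i) := fun i => by
    rcases lt_trichotomy i (a - d) with hi | hi | hi
    · exact (T.isZero_of_isStrictlyGE (a - d) i hi).projective
    · subst hi; exact Projective.of_iso (P.truncGEXIsoOpcycles (a - d)).symm hop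
    · exact Projective.of_iso (P.truncGEXIso (a - d) i hi).symm (hP i)
  refine ⟨T, fun i => (IsProjective.iff_projective _).2 (hT i), fun i hi => ?_,
    ⟨(asIso (DerivedCategory.Q.map (P.πTruncGE (a - d)))).symm⟩⟩
  rcases hi with hi | hi
  · exact T.isZero_of_isStrictlyGE (a - d) i hi
  · rcases lt_trichotomy i (a - d) with h' | h' | h'
    · exact T.isZero_of_isStrictlyGE (a - d) i h'
    · subst h'
      refine IsZero.of_iso ?_ (P.truncGEXIsoOpcycles (a - d))
      rw [IsZero.iff_id_eq_zero, ← cancel_epi (P.pOpcycles (a - d))]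
      exact (hb _ hi).eq_of_src _ _
    · exact (hb i hi).of_iso (P.truncGEXIso (a - d) i h')

variable {X : Scheme.{u}} (f : X ⟶ Spec (CommRingCat.of A)) [QuasiCompact f] [IsSeparated f] [HTor.HasRΓA f]

/-- A complex of modules with the bounds computing `RΓ`. -/
theorem exists_model {F : X.Modules → Prop} (hF : Acyc.Extra F) (N : ℕ)
    (hN : ∀ (M : X.Modules) [Coh.IsQCoh M] (i : ℕ), N < i → Subsingleton (Coh.HH X M i))
    (P : CochainComplex X.Modules ℤ) (hq : ∀ i, Coh.IsQCoh (P.X i)) (hP : ∀ i, F (P.X i)) :
    ∃ T : CochainComplex X.Modules ℤ, (∀ n, Acyc.Cls F (T.X n)) ∧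
      (∀ a : ℤ, (∀ n, n < a → IsZero (P.X n)) → ∀ n, n < a → IsZero (T.X n)) ∧
      (∀ b : ℤ, (∀ n, b < n → IsZero (P.X n)) → ∀ n, b + N < n → IsZero (T.X n)) ∧
      HTor.Computes f (((HTor.globalSectionsA f).mapHomologicalComplex (ComplexShape.up ℤ)).obj T)
        (DCoh.toD X P) ∧ ∃ s : P ⟶ T, QuasiIso s := by
  obtain ⟨T, s, hs, hT, ha, hb⟩ := Acyc.exists_res f hF N hN P hq hP
  haveI := hs
  obtain ⟨e⟩ := computes f T (fun n => (hT n).qcoh) (fun n i => (hT n).acyc i)
  exact ⟨T, hT, ha, hb, ⟨e ≪≫ (HTor.RΓA f).mapIso (asIso (DerivedCategory.Q.map s)).symm⟩, s, hs⟩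

end Groth.L17.HTorRG.Bounded
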