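import Groth.Agent.L17.HTor.CechBC
import Groth.Agent.L17.BC.PullSec
import Groth.Agent.L17.HTor.Bounded
import Groth.Agent.L10.DRing.TorTest
import Groth.Agent.L29.DCoh.RelBC

/-!
Cohomology and base change in derived form, for complexes flat over the affine base.
-/

set_option autoImplicit false
set_option linter.style.haveILetI false
set_option linter.unusedSectionVars false
set_option backward.defeqAttrib.useBackward true
set_option backward.isDefEq.respectTransparency false
set_option backward.isDefEq.respectTransparency.types false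

universe u

open CategoryTheory CategoryTheory.Limits AlgebraicGeometry Opposite TopologicalSpace
open scoped TensorProduct

attribute [local instance] HasDerivedCategory.standard

noncomputable section

namespace Groth.L17.HTorRG.BaseChange

open Groth.L18.Frame (rs ro rs_rs rs_self)
open Groth.L17.BC (Sec pullL Compat compat_of_isPullback act)

local notation "c" => ComplexShape.up ℤ

section Sections

variable {A : Type u} [CommRing A] {X : Scheme.{u}} (f : X ⟶ Spec (CommRingCat.of A))

set_option backward.isDefEq.respectTransparency.types true in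
/-- Global sections with values in modules, as sections with the action through global functions. -/
def eΓ (Z : X.Modules) : ((HTor.globalSectionsA f).obj Z : Type u) ≃ₗ[A] Sec (Coh.toGlobal f) Z ⊤ :=
  AddEquiv.toLinearEquiv (R := A) (M := (HTor.globalSectionsA f).obj Z) (M₂ := Sec (Coh.toGlobal f) Z ⊤)
    (AddEquiv.refl Γ(Z, ⊤)) fun a s => by
    refine congrArg (fun t : Γ(X, ⊤) => t • (show Γ(Z, ⊤) from s)) ?_
    exact ConcreteCategory.congr_hom (show f.appTop = f.appTop ≫ X.presheaf.map (homOfLE (le_top : (⊤ : X.Opens) ≤ ⊤)).op by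
      rw [show (homOfLE (le_top : (⊤ : X.Opens) ≤ ⊤)).op = 𝟙 _ from rfl, X.presheaf.map_id, Category.comp_id])
      ((Scheme.ΓSpecIso (CommRingCat.of A)).inv a)

theorem eΓ_map {Z Z' : X.Modules} (φ : Z ⟶ Z') (s : (HTor.globalSectionsA f).obj Z) :
    eΓ f Z' ((HTor.globalSectionsA f).map φ s) = φ.app ⊤ (eΓ f Z s) := rfl

end Sections

variable {A A' : Type u} [CommRing A] [CommRing A'] [Algebra A A'] {X X' : Scheme.{u}}
  (f : X ⟶ Spec (CommRingCat.of A)) (f' : X' ⟶ Spec (CommRingCat.of A')) (g : X' ⟶ X)
  (sq : IsPullback g f' f (Spec.map (CommRingCat.ofHom (algebraMap A A'))))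

/-- Pullback of global sections. -/
def tZ (Z : X.Modules) : (HTor.globalSectionsA f).obj Z ⟶
    (ModuleCat.restrictScalars (algebraMap A A')).obj
      ((HTor.globalSectionsA f').obj ((Scheme.Modules.pullback g).obj Z)) :=
  ((eΓ f Z).toModuleIso).hom ≫
    ModuleCat.ofHom (pullL g (Coh.toGlobal f) (Coh.toGlobal f') Z (compat_of_isPullback f f' g sq) (V := ⊤) (W := ⊤)
      (le_refl _)) ≫
    (ModuleCat.restrictScalars (algebraMap A A')).map
      ((eΓ f' ((Scheme.Modules.pullback g).obj Z)).toModuleIso).inv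

/-- The base change map of global sections. -/
def μ : HTor.globalSectionsA f ⋙ ModuleCat.extendScalars (algebraMap A A') ⟶
    Scheme.Modules.pullback g ⋙ HTor.globalSectionsA f' where
  app Z := ((ModuleCat.extendRestrictScalarsAdj (algebraMap A A')).homEquiv _ _).symm (tZ f f' g sq Z)
  naturality Z Z' φ := by
    simp only [Functor.comp_map]
    rw [← Adjunction.homEquiv_naturality_left_symm, ← Adjunction.homEquiv_naturality_right_symm]
    congr 1
    refine ModuleCat.hom_ext (LinearMap.ext fun s => ?_)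
    exact (congrArg (rs ((Scheme.Modules.pullback g).obj Z') (le_refl _))
      (Groth.L17.BC.PullSec.map_pull g φ ⊤ (eΓ f Z s)).symm).trans
        (Groth.L17.BC.PullSec.app_rs ((Scheme.Modules.pullback g).map φ) (le_refl _) _).symm

theorem μ_app_tmul (Z : X.Modules) (b : A') (s : (HTor.globalSectionsA f).obj Z) :
    letI := Module.compHom A' (algebraMap A A')
    (μ f f' g sq).app Z (b ⊗ₜ[A] s) = b • (tZ f f' g sq Z s) := rfl

variable [IsSeparated f] [QuasiCompact f]

theorem isIso_μ (Z : X.Modules) [Coh.IsQCoh Z] (hfl : FlatMod.IsFlatOver f Z) (hH : Acyc.IsAcyc Z) :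
    IsIso ((μ f f' g sq).app Z) := by
  obtain ⟨hb, -⟩ := CechBC.isBaseChange_top f f' g sq Z hfl hH
  rw [ConcreteCategory.isIso_iff_bijective]
  have h : ∀ z, (μ f f' g sq).app Z z =
      (eΓ f' ((Scheme.Modules.pullback g).obj Z)).symm (hb.equiv (Groth.L01.FlatCx.bcE A' _ z |> fun w =>
        (TensorProduct.congr (LinearEquiv.refl A A') (eΓ f Z)) w)) := fun z => by
    induction z using TensorProduct.induction_on with
    | zero => simp only [map_zero]
    | add a b ha hb' => simp only [map_add, ha, hb']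
    | tmul b s =>
      show b • tZ f f' g sq Z s = _
      refine Eq.trans ?_ (congrArg _ (hb.equiv_tmul b (eΓ f Z s)).symm)
      exact (map_smul (eΓ f' ((Scheme.Modules.pullback g).obj Z)).symm b _).symm
  rw [show ((μ f f' g sq).app Z : _ → _) = _ from funext h]
  exact (eΓ f' _).symm.bijective.comp (hb.equiv.bijective.comp
    ((TensorProduct.congr (LinearEquiv.refl A A') (eΓ f Z)).bijective.comp (Groth.L01.FlatCx.bcE A' _).bijective))

theorem flat_Γ (Z : X.Modules) [Coh.IsQCoh Z] (hfl : FlatMod.IsFlatOver f Z) (hH : Acyc.IsAcyc Z) :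
    Module.Flat A ((HTor.globalSectionsA f).obj Z : Type u) := by
  let f₀ := pullback.snd f (Spec.map (CommRingCat.ofHom (algebraMap A A)))
  haveI := (CechBC.isBaseChange_top f f₀ (pullback.fst _ _) (IsPullback.of_hasPullback _ _) Z hfl hH).2
  exact Module.Flat.of_linearEquiv (eΓ f Z)

include sq in
/-- Derived base change. -/
theorem computes_bc [HTor.HasRΓA f] [HTor.HasRΓA f']
    (P : CochainComplex X.Modules ℤ) (hq : ∀ i : ℤ, Coh.IsQCoh (P.X i)) (b : ℤ)
    (hb : ∀ i : ℤ, b < i → IsZero (P.X i)) (hfl : ∀ i : ℤ, FlatMod.IsFlatOver f (P.X i))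
    (L : DRing.Cx A) (hL : ∀ i : ℤ, Projective (L.X i)) (bL : ℤ) (hLb : DRing.VanishesAbove L bL)
    (e : HTor.Computes f L (DCoh.toD X P)) :
    HTor.Computes f' (CohIII.bcCx (algebraMap A A') L) (DCoh.toD X' ((HTor.pullCx g).obj P)) := by
  obtain ⟨N, U, hU, hcov⟩ := Acyc.exists_cover f
  obtain ⟨T, hT, -, hTb, ⟨eT⟩, s, hs⟩ := Bounded.exists_model f (Acyc.extra_flat f) N
    (fun M _ i hi => Acyc.subsingleton_of_cover f N U hU hcov M i hi) P hq hfl
  have hTb' := hTb b hb
  haveI := hs
  let ΓT := ((HTor.globalSectionsA f).mapHomologicalComplex c).obj T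
  haveI : L.IsKProjective :=
    haveI : L.IsStrictlyLE bL := (CochainComplex.isStrictlyLE_iff L bL).2 hLb
    CochainComplex.isKProjective_of_projective L bL
  obtain ⟨e₀⟩ := e
  obtain ⟨l, hl⟩ := Groth.L02.PC.exists_chainMap (P := L) (K := ΓT) (e₀ ≪≫ eT.symm).hom
  haveI : QuasiIso l := (DerivedCategory.isIso_Q_map_iff_quasiIso _ l).1 (by rw [hl]; infer_instance)
  haveI : QuasiIso (((ModuleCat.extendScalars (algebraMap A A')).mapHomologicalComplex c).map l) :=
    Groth.L17.BC.quasiIso_bc A' l (Groth.L10.DR.quasiIso_tF l hLb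
      (fun i => haveI : Module.Projective A (L.X i) := (IsProjective.iff_projective _).2 (hL i)
        inferInstance)
      (fun i hi => (HTor.globalSectionsA f).map_isZero (hTb' i hi))
      (fun i => haveI := (hT i).qcoh; flat_Γ f (T.X i) (hT i).extra (hT i).acyc) (ModuleCat.of A A'))
  let m := (NatTrans.mapHomologicalComplex (μ f f' g sq) c).app T
  haveI : ∀ i, IsIso (m.f i) := fun i => haveI := (hT i).qcoh; isIso_μ f f' g sq (T.X i) (hT i).extra (hT i).acyc
  haveI : IsIso m := HomologicalComplex.Hom.isIso_of_components _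
  haveI := Groth.L17.BC.isAffineHom_of_isPullback f f' g sq
  haveI : QuasiCompact f' := MorphismProperty.of_isPullback (P := @QuasiCompact) sq inferInstance
  haveI : IsSeparated f' := MorphismProperty.of_isPullback (P := @IsSeparated) sq inferInstance
  obtain ⟨eT'⟩ := computes f' ((HTor.pullCx g).obj T)
    (fun i => haveI := (hT i).qcoh; Groth.L16.AffineBC.isQCoh_pullback g (T.X i))
    (fun i n => haveI := (hT i).qcoh; CechBC.acyc_pullback f f' g sq (T.X i) (hT i).extra (hT i).acyc n)
  haveI : QuasiIso ((HTor.pullCx g).map s) := Groth.L29.DC.RelBC.quasiIso_pullback sq s (b := b + N)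
    (fun i hi => hb i (by omega)) hTb' hfl (fun i => (hT i).extra)
  exact ⟨asIso (DerivedCategory.Q.map (((ModuleCat.extendScalars (algebraMap A A')).mapHomologicalComplex c).map l)) ≪≫
    DerivedCategory.Q.mapIso (asIso m) ≪≫ eT' ≪≫
      (HTor.RΓA f').mapIso (asIso (DerivedCategory.Q.map ((HTor.pullCx g).map s))).symm⟩

end Groth.L17.HTorRG.BaseChange
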