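import Groth.Agent.L17.BC.CechFlat
import Groth.Agent.L17.Kun.H0Flat
import Groth.Agent.L17.HTor.Acyc
import Mathlib.Topology.Sheaves.SheafCondition.UniqueGluing

/-!
Global sections of an acyclic flat quasi-coherent module commute with every base change.
-/

set_option autoImplicit false
set_option linter.style.haveILetI false
set_option linter.unusedSectionVars false
set_option backward.isDefEq.respectTransparency false
set_option backward.isDefEq.respectTransparency.types false

universe u

open CategoryTheory CategoryTheory.Limits AlgebraicGeometry TopologicalSpace Opposite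
open scoped TensorProduct

noncomputable section

namespace Groth.L17.HTorRG.CechBC

open Groth.L18.Frame (rs ro rs_rs rs_self)
open Groth.L17.BC

variable {X : Scheme.{u}} {A : Type u} [CommRing A] (ρ : A →+* Coh.Γtop X) (F : X.Modules) {ι : Type u}
  (U : ι → X.Opens)

/-- The augmentation of the Čech complex. -/
def r : Sec ρ F ⊤ →ₗ[A] C ρ F U 0 := LinearMap.pi fun _ => resL ρ F le_top

/-- The index of one open. -/
def sing (i : ι) : Idx ι 0 := ⟨[i], rfl, List.cons_ne_nil i []⟩

omit [CommRing A] in
theorem le_opn_sing (i : ι) : U i ≤ opn U [i] := le_iInf fun k => by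
  obtain ⟨k, hk⟩ := k
  obtain rfl : k = 0 := by simp at hk; omega
  exact le_refl _

variable (hcov : ⨆ i, U i = ⊤)

include hcov in
theorem injective_r : Function.Injective (r ρ F U) := fun s t h => by
  refine TopCat.Sheaf.eq_of_locally_eq' (⟨F.presheaf, F.isSheaf⟩ : TopCat.Sheaf AddCommGrpCat.{u} X.toTopCat) U ⊤
    (fun i => homOfLE le_top) hcov.ge s t fun i => ?_
  have h1 := congrArg (rs F (le_opn_sing U i)) (congrFun h (sing i))
  change rs F (le_opn_sing U i) (rs F _ (show Γ(F, ⊤) from s)) = rs F (le_opn_sing U i) (rs F _ (show Γ(F, ⊤) from t)) at h1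
  rwa [rs_rs, rs_rs] at h1

theorem dL_r (x : Sec ρ F ⊤) : dL ρ F U 0 (r ρ F U x) = 0 := by
  funext a
  rw [dL_apply ρ F U le_rfl]
  have hl : a.1.length = 2 := by have := a.2.1; omega
  rw [← (finCongr hl).symm.sum_comp, Fin.sum_univ_two]
  show ((-1 : ℤ) ^ (0 : ℕ)) • rs F _ (rs F _ (show Γ(F, ⊤) from x)) +
    ((-1 : ℤ) ^ (1 : ℕ)) • rs F _ (rs F _ (show Γ(F, ⊤) from x)) = 0
  rw [rs_rs, rs_rs]
  simp

include hcov in
theorem exact_r : Function.Exact (r ρ F U) (dL ρ F U 0) := fun y => by
  refine ⟨fun hy => ?_, by rintro ⟨x, rfl⟩; exact dL_r ρ F U x⟩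
  let y' : ∀ i, Γ(F, U i) := fun i => rs F (le_opn_sing U i) (y (sing i))
  obtain ⟨s, hs, -⟩ := TopCat.Sheaf.existsUnique_gluing'
    (⟨F.presheaf, F.isSheaf⟩ : TopCat.Sheaf AddCommGrpCat.{u} X.toTopCat) U ⊤
    (fun i => homOfLE le_top) hcov.ge y' (fun i j => by
      show rs F _ (y' i) = rs F _ (y' j)
      let a : Idx ι (0 + 1) := ⟨[i, j], rfl, List.cons_ne_nil i [j]⟩
      have ha : U i ⊓ U j ≤ opn U a.1 := le_iInf fun k => by
        obtain ⟨k, hk⟩ := k
        have : k = 0 ∨ k = 1 := by simp [a] at hk; omega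
        rcases this with rfl | rfl
        · exact inf_le_left
        · exact inf_le_right
      have h := congrArg (rs F ha) (congrFun hy a)
      rw [dL_apply ρ F U le_rfl] at h
      change rs F ha (∑ k : Fin 2, ((-1 : ℤ) ^ k.1) •
        resL ρ F (opn_le_erase U a.1 k.1) (y ⟨a.1.eraseIdx k.1, length_erase le_rfl a k⟩)) = rs F ha 0 at h
      rw [Fin.sum_univ_two] at h
      have h0 : ∀ {V W : X.Opens} (e : V ≤ W), rs F e (0 : Γ(F, W)) = 0 := fun e => map_zero (F.presheaf.map (homOfLE e).op).hom
      simp only [Fin.val_zero, Fin.val_one, pow_zero, pow_one, one_smul, neg_smul] at h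
      rw [h0, ← sub_eq_add_neg] at h
      have h' := sub_eq_zero.1 ((map_sub (F.presheaf.map (homOfLE ha).op).hom _ _).symm.trans h)
      change rs F ha (rs F _ (y (sing j))) = rs F ha (rs F _ (y (sing i))) at h'
      rw [rs_rs, rs_rs] at h'
      show rs F _ (rs F _ (y (sing i))) = rs F _ (rs F _ (y (sing j)))
      rw [rs_rs, rs_rs]
      exact h'.symm)
  refine ⟨s, funext fun a => ?_⟩
  obtain ⟨l, hl, hne⟩ := a
  obtain ⟨i, rfl⟩ : ∃ i, l = [i] := List.length_eq_one_iff.1 (by omega)
  have e : opn U [i] ≤ U i := iInf_le (fun k : Fin [i].length => U [i][k.1]) ⟨0, by simp⟩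
  have h := congrArg (rs F e) (hs i)
  change rs F e (rs F _ s) = rs F e (rs F (le_opn_sing U i) (y (sing i))) at h
  rw [rs_rs, rs_rs, rs_self] at h
  exact h

section BC

variable {B : Type u} [CommRing B] [Algebra A B] {X' : Scheme.{u}} (g : X' ⟶ X) (ρ' : B →+* Coh.Γtop X')
  (hc : Compat g ρ ρ')

theorem Φ_r (x : Sec ρ F ⊤) : Φ g ρ ρ' F hc U 0 (r ρ F U x) =
    r ρ' (Fb g F) (Ub g U) (pullL g ρ ρ' F hc (le_refl _) x) :=
  funext fun a => (pullL_res g ρ ρ' F hc _ _ le_top le_top x).symm

end BC

section Main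

open Groth.L01.FlatCx

variable {A B : Type u} [CommRing A] [CommRing B] [Algebra A B] {X X' : Scheme.{u}}
  (f : X ⟶ Spec (CommRingCat.of A)) [IsSeparated f] [QuasiCompact f] (f' : X' ⟶ Spec (CommRingCat.of B))
  (g : X' ⟶ X) (sq : IsPullback g f' f (Spec.map (CommRingCat.ofHom (algebraMap A B))))
  (F : X.Modules) [Coh.IsQCoh F]

include sq in
/-- Base change of global sections, and flatness. -/
theorem isBaseChange_top (hfl : FlatMod.IsFlatOver f F) (hH : Acyc.IsAcyc F) :
    IsBaseChange B (pullL g (Coh.toGlobal f) (Coh.toGlobal f') F (compat_of_isPullback f f' g sq)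
      (V := ⊤) (W := ⊤) (le_refl _)) ∧ Module.Flat A (Sec (Coh.toGlobal f) F ⊤) := by
  haveI : CompactSpace X := QuasiCompact.compactSpace_of_compactSpace f
  haveI : X.IsSeparated := ⟨by rw [← terminal.comp_from f]; infer_instance⟩
  haveI : IsAffineHom (pullback.diagonal f) := inferInstance
  letI : X.Over (Spec (CommRingCat.of A)) := ⟨f⟩
  obtain ⟨t, U, hcov, haff⟩ := exists_affine_cover (X := X)
  set ρ := Coh.toGlobal f
  set ρ' := Coh.toGlobal f'
  have hc : Compat g ρ ρ' := compat_of_isPullback f f' g sq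
  have hcov' : ⨆ i, Ub g U i = ⊤ := top_unique fun x _ => by
    obtain ⟨i, hi⟩ := Opens.mem_iSup.1 (hcov.ge (Opens.mem_top (g x)))
    exact Opens.mem_iSup.2 ⟨i, hi⟩
  let P := K ρ F U
  have hP : ∀ i, Module.Flat A (P.X i) := flat_K f U F (fun V hV => flat_sec f F hfl hV) haff
  haveI : Module.Flat A (Coh.HH X F 0) := Kun.flat_HH_zero F hfl fun p => by
    haveI := hH p
    infer_instance
  have hH' : ∀ j : ℤ, Module.Flat A (P.homology j) := fun j => by
    by_cases hj : j < 0
    · haveI : Subsingleton (P.X j) := subsingleton_C _ F U hj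
      haveI : Subsingleton (P.homology j) := ModuleCat.subsingleton_of_isZero
        (ShortComplex.isZero_homology_of_isZero_X₂ (P.sc j) (ModuleCat.isZero_of_subsingleton (P.X j)))
      infer_instance
    · obtain ⟨m, rfl⟩ : ∃ m : ℕ, j = m := ⟨j.toNat, (Int.toNat_of_nonneg (by omega)).symm⟩
      obtain ⟨em⟩ := exists_homology_equiv ρ F U hcov haff m
      cases m with
      | zero => exact Module.Flat.of_linearEquiv em
      | succ m =>
        haveI := hH m
        exact Module.Flat.of_linearEquiv em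
  have hN : ∀ j, (Nat.card (ULift.{u} (Fin t)) : ℤ) ≤ j → Module.Flat A (Coker P (j - 1) j) := fun j hj => by
    refine (preservesMono_iff P (i := j - 1) (j := j) ((ComplexShape.up ℤ).prev_eq' (by simp)) hP).1
      ⟨fun {M N} g _ => ?_⟩
    rw [ModuleCat.mono_iff_injective]
    haveI := ModuleCat.subsingleton_of_isZero (isZero_T_K f U F hcov haff M j hj)
    exact fun a a' _ => Subsingleton.elim (α := CohIII.T P j M) a a'
  have hq := CechFlat.flat_coker P hP _ hN hH' 1
  rw [show (1 : ℤ) - 1 = 0 from rfl] at hq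
  haveI := hq.1
  haveI := hq.2
  have hd : dd P 0 1 = dL ρ F U 0 := LinearMap.ext fun x => K_d ρ F U 0 x
  let d : C ρ F U 0 →ₗ[A] C ρ F U (0 + 1) := dd P 0 1
  have hrd : Function.Exact (r ρ F U) d.rangeRestrict := fun y => by
    rw [← exact_r ρ F U hcov y, ← hd]
    exact Subtype.ext_iff
  have hi : Function.Injective ((r ρ F U).lTensor B) := by
    haveI : Module.Flat A (LinearMap.range d) := hq.2
    rw [LinearMap.lTensor_inj_iff_rTensor_inj]
    exact rTensor_injective_of_flat_quot (g := d.rangeRestrict) (injective_r ρ F U hcov)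
      d.surjective_rangeRestrict hrd (ModuleCat.of A B)
  have hir : Function.Injective ((LinearMap.range d).subtype.lTensor B) := by
    rw [LinearMap.lTensor_inj_iff_rTensor_inj]
    exact rTensor_injective_of_flat_quot (g := (LinearMap.range d).mkQ) (Submodule.injective_subtype _)
      (Submodule.mkQ_surjective _) (LinearMap.exact_subtype_mkQ _) (ModuleCat.of A B)
  have hex : Function.Exact ((r ρ F U).lTensor B) (d.lTensor B) := fun z => by
    rw [← lTensor_exact B hrd d.surjective_rangeRestrict z, ← map_eq_zero_iff _ hir, ← LinearMap.comp_apply,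
      ← LinearMap.lTensor_comp]
    exact Iff.rfl
  have hΦ := isBaseChange_Φ g ρ ρ' F hc U (hasBC_of_isPullback f f' g sq F) haff
  refine ⟨IsBaseChange.of_equiv (LinearEquiv.ofBijective
    ((pullL g ρ ρ' F hc (V := ⊤) (W := ⊤) (le_refl _)).liftBaseChange B) ?_) fun x => ?_, ?_⟩
  · let l := (pullL g ρ ρ' F hc (V := ⊤) (W := ⊤) (le_refl _)).liftBaseChange B
    let r' := r ρ' (Fb g F) (Ub g U)
    have key : ∀ z, r' (l z) = (hΦ 0).equiv ((r ρ F U).lTensor B z) := fun z => by
      induction z using TensorProduct.induction_on with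
      | zero => simp only [map_zero]
      | add a b ha hb => simp only [map_add, ha, hb]
      | tmul b x =>
        show r' (b • pullL g ρ ρ' F hc (le_refl _) x) = (hΦ 0).equiv (b ⊗ₜ r ρ F U x)
        rw [IsBaseChange.equiv_tmul, Φ_r, map_smul]
    have key1 : ∀ z, dL ρ' (Fb g F) (Ub g U) 0 ((hΦ 0).equiv z) = (hΦ (0 + 1)).equiv (d.lTensor B z) := fun z => by
      induction z using TensorProduct.induction_on with
      | zero => simp only [map_zero]
      | add a b ha hb => simp only [map_add, ha, hb]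
      | tmul b x =>
        rw [LinearMap.lTensor_tmul, IsBaseChange.equiv_tmul, IsBaseChange.equiv_tmul, map_smul, ← Φ_d]
        exact congrArg (fun w => b • Φ g ρ ρ' F hc U (0 + 1) w) (K_d ρ F U 0 x).symm
    refine ⟨fun a b h => hi ((hΦ 0).equiv.injective (by rw [← key, ← key]; exact congrArg r' h)), fun y => ?_⟩
    obtain ⟨z, hz⟩ := (hΦ 0).equiv.surjective (r' y)
    have h0 : d.lTensor B z = 0 := by
      refine (hΦ (0 + 1)).equiv.injective ?_
      rw [← key1, hz, map_zero]
      exact dL_r ρ' (Fb g F) (Ub g U) y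
    obtain ⟨w, rfl⟩ := (hex z).1 h0
    exact ⟨w, injective_r ρ' (Fb g F) (Ub g U) hcov' ((key w).trans hz)⟩
  · exact (LinearMap.liftBaseChange_tmul (A := B) _ 1 x).trans (one_smul _ _)
  · haveI : Module.Flat A (P.X 0) := hP 0
    haveI : Module.Flat A (C ρ F U 0) := hP 0
    haveI : Module.Flat A (LinearMap.range d) := hq.2
    exact flat_left (injective_r ρ F U hcov) d.surjective_rangeRestrict hrd

include sq in
/-- Higher cohomology still vanishes. -/
theorem acyc_pullback (hfl : FlatMod.IsFlatOver f F) (hH : Acyc.IsAcyc F) :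
    Acyc.IsAcyc ((Scheme.Modules.pullback g).obj F) := fun p => by
  letI : ∀ q, Module A (Coh.HH X F q) := fun q => Module.compHom _ (Coh.toGlobal f)
  letI : Module B (Coh.HH X' ((Scheme.Modules.pullback g).obj F) (p + 1)) := Module.compHom _ (Coh.toGlobal f')
  haveI : CompactSpace X := QuasiCompact.compactSpace_of_compactSpace f
  obtain ⟨e⟩ := CechFlat.exists_equiv_of_flat_cohomology f f' g sq F hfl (fun q => by
    cases q with
    | zero =>
      letI : X.Over (Spec (CommRingCat.of A)) := ⟨f⟩
      haveI : IsAffineHom (pullback.diagonal (X ↘ Spec (CommRingCat.of A))) :=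
        (inferInstance : IsAffineHom (pullback.diagonal f))
      exact Kun.flat_HH_zero F hfl fun p => by haveI := hH p; infer_instance
    | succ q => haveI := hH q; infer_instance) (p + 1)
  haveI := hH p
  exact e.symm.toEquiv.subsingleton

/-- The augmented Čech complex of a flat acyclic module stays exact after tensoring. -/
theorem exact_tensor {A : Type u} [CommRing A] {X : Scheme.{u}} (f : X ⟶ Spec (CommRingCat.of A)) [IsSeparated f]
    [QuasiCompact f] (F : X.Modules) [Coh.IsQCoh F] (hfl : FlatMod.IsFlatOver f F) (hH : Acyc.IsAcyc F)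
    {ι : Type u} [Finite ι] (U : ι → X.Opens) (hcov : ⨆ i, U i = ⊤)
    (haff : ∀ (n : ℕ) (a : Fin (n + 1) → ι), IsAffineOpen (⨅ k, U (a k))) (M : ModuleCat.{u} A) :
    Function.Exact ((r (Coh.toGlobal f) F U).rTensor M) ((dL (Coh.toGlobal f) F U 0).rTensor M) ∧
      Function.Injective ((r (Coh.toGlobal f) F U).rTensor M) := by
  haveI : CompactSpace X := QuasiCompact.compactSpace_of_compactSpace f
  letI : X.Over (Spec (CommRingCat.of A)) := ⟨f⟩
  haveI : IsAffineHom (pullback.diagonal (X ↘ Spec (CommRingCat.of A))) :=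
    (inferInstance : IsAffineHom (pullback.diagonal f))
  set ρ := Coh.toGlobal f
  let P := K ρ F U
  have hP : ∀ i, Module.Flat A (P.X i) := flat_K f U F (fun V hV => flat_sec f F hfl hV) haff
  haveI : Module.Flat A (Coh.HH X F 0) := Kun.flat_HH_zero F hfl fun p => by
    haveI := hH p
    infer_instance
  have hH' : ∀ j : ℤ, Module.Flat A (P.homology j) := fun j => by
    by_cases hj : j < 0
    · haveI : Subsingleton (P.X j) := subsingleton_C _ F U hj
      haveI : Subsingleton (P.homology j) := ModuleCat.subsingleton_of_isZero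
        (ShortComplex.isZero_homology_of_isZero_X₂ (P.sc j) (ModuleCat.isZero_of_subsingleton (P.X j)))
      infer_instance
    · obtain ⟨m, rfl⟩ : ∃ m : ℕ, j = m := ⟨j.toNat, (Int.toNat_of_nonneg (by omega)).symm⟩
      obtain ⟨em⟩ := exists_homology_equiv ρ F U hcov haff m
      cases m with
      | zero => exact Module.Flat.of_linearEquiv em
      | succ m =>
        haveI := hH m
        exact Module.Flat.of_linearEquiv em
  have hN : ∀ j, (Nat.card ι : ℤ) ≤ j → Module.Flat A (Coker P (j - 1) j) := fun j hj => by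
    refine (preservesMono_iff P (i := j - 1) (j := j) ((ComplexShape.up ℤ).prev_eq' (by simp)) hP).1
      ⟨fun {M N} g _ => ?_⟩
    rw [ModuleCat.mono_iff_injective]
    haveI := ModuleCat.subsingleton_of_isZero (isZero_T_K f U F hcov haff M j hj)
    exact fun a a' _ => Subsingleton.elim (α := CohIII.T P j M) a a'
  have hq := CechFlat.flat_coker P hP _ hN hH' 1
  rw [show (1 : ℤ) - 1 = 0 from rfl] at hq
  haveI := hq.1
  haveI := hq.2
  have hd : dd P 0 1 = dL ρ F U 0 := LinearMap.ext fun x => K_d ρ F U 0 x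
  let d : C ρ F U 0 →ₗ[A] C ρ F U (0 + 1) := dd P 0 1
  have hrd : Function.Exact (r ρ F U) d.rangeRestrict := fun y => by
    rw [← exact_r ρ F U hcov y, ← hd]
    exact Subtype.ext_iff
  haveI : Module.Flat A (LinearMap.range d) := hq.2
  have hi : Function.Injective ((r ρ F U).rTensor M) :=
    rTensor_injective_of_flat_quot (g := d.rangeRestrict) (injective_r ρ F U hcov) d.surjective_rangeRestrict hrd M
  have hir : Function.Injective ((LinearMap.range d).subtype.rTensor M) :=
    rTensor_injective_of_flat_quot (g := (LinearMap.range d).mkQ) (Submodule.injective_subtype _)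
      (Submodule.mkQ_surjective _) (LinearMap.exact_subtype_mkQ _) M
  refine ⟨?_, hi⟩
  rw [← hd]
  show Function.Exact _ (d.rTensor M)
  intro z
  rw [← rTensor_exact M hrd d.surjective_rangeRestrict z, ← map_eq_zero_iff _ hir, ← LinearMap.comp_apply,
    ← LinearMap.rTensor_comp]
  exact Iff.rfl

end Main

end Groth.L17.HTorRG.CechBC
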