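import Groth.Agent.L17.BC.Cochains
import Groth.Agent.L17.QCohExtension
import Groth.Agent.L00.CellTower
import Groth.Agent.L20.ModStalk
import Groth.Agent.L00.KFlatStalk
import Groth.Agent.L10.DRing.TorTest
import Mathlib.RingTheory.LocalProperties.Exactness

/-!
Exactness and quasi-isomorphisms of complexes of quasi-coherent modules, on affine sections.
-/

set_option autoImplicit false
set_option linter.style.haveILetI false
set_option linter.unusedSectionVars false
set_option backward.defeqAttrib.useBackward true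
set_option backward.isDefEq.respectTransparency false
set_option backward.isDefEq.respectTransparency.types false

universe u

open CategoryTheory CategoryTheory.Limits AlgebraicGeometry TopologicalSpace Opposite

attribute [local instance] HasDerivedCategory.standard

noncomputable section

namespace Groth.L17.HTorRG.SecExact

open Groth.L17.BC (Sec act)
open Groth.L17.BC.Cochains (appL exact_app)

variable {A : Type u} [CommRing A] {X : Scheme.{u}} (ρ : A →+* Coh.Γtop X)

/-- Sections over an open, with the action through global functions. -/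
def secF (O : X.Opens) : X.Modules ⥤ ModuleCat.{u} A where
  obj M := ModuleCat.of A (Sec ρ M O)
  map φ := ModuleCat.ofHom (appL ρ φ O)
  map_id M := rfl
  map_comp φ ψ := rfl

instance additive_secF (O : X.Opens) : (secF ρ O).Additive where
  map_add := rfl

/-- Sections over an open of a complex. -/
abbrev secCx (O : X.Opens) : CochainComplex X.Modules ℤ ⥤ DRing.Cx A :=
  (secF ρ O).mapHomologicalComplex (ComplexShape.up ℤ)

/-- Affine sections of an exact complex of quasi-coherent modules. -/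
theorem isZero_sec {O : X.Opens} (hO : IsAffineOpen O) (C : CochainComplex X.Modules ℤ)
    (hq : ∀ i, Coh.IsQCoh (C.X i)) (hz : ∀ i, IsZero (C.homology i)) (i : ℤ) :
    IsZero (((secCx ρ O).obj C).homology i) := by
  rw [Groth.L10.DR.isZero_homology_iff_exact _ (i - 1) i (i + 1) (by omega) rfl]
  have h := (C.exactAt_iff' (i - 1) i (i + 1) (by simp) (by simp)).1
    ((C.exactAt_iff_isZero_homology i).2 (hz i))
  haveI : Coh.IsQCoh (C.sc' (i - 1) i (i + 1)).X₁ := hq _
  haveI : Coh.IsQCoh (C.sc' (i - 1) i (i + 1)).X₂ := hq _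
  haveI : Coh.IsQCoh (C.sc' (i - 1) i (i + 1)).X₃ := hq _
  intro y
  refine ⟨fun hy => exact_app h hO y hy, ?_⟩
  rintro ⟨x, rfl⟩
  exact congr($(congrArg (fun k => Scheme.Modules.Hom.app k O) (C.d_comp_d (i - 1) i (i + 1))) x)

/-- Exactness from the sections over an affine cover. -/
theorem isZero_of_sec (C : CochainComplex X.Modules ℤ) (hq : ∀ i, Coh.IsQCoh (C.X i))
    (h : ∀ x : X, ∃ O : X.Opens, x ∈ O ∧ IsAffineOpen O ∧ ∀ i, IsZero (((secCx ρ O).obj C).homology i))
    (i : ℤ) : IsZero (C.homology i) := by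
  refine (Groth.L00.Stk.acyclic_iff C i).2 fun x => ?_
  obtain ⟨O, hx, hO, hz⟩ := h x
  rw [Groth.L10.DR.isZero_homology_iff_exact _ (i - 1) i (i + 1) (by omega) rfl]
  have he := (Groth.L10.DR.isZero_homology_iff_exact _ (i - 1) i (i + 1) (by omega) rfl).1 (hz i)
  haveI := hq (i - 1)
  haveI := hq i
  haveI := hq (i + 1)
  letI := Groth.L20.ModStalk.stalkModule (C.X (i - 1)) hx
  letI := Groth.L20.ModStalk.stalkModule (C.X i) hx
  letI := Groth.L20.ModStalk.stalkModule (C.X (i + 1)) hx
  let S := (hO.primeIdealOf ⟨x, hx⟩).asIdeal.primeCompl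
  haveI := Groth.L20.ModStalk.isLocalizedModule_germ (C.X (i - 1)) hO hx
  haveI := Groth.L20.ModStalk.isLocalizedModule_germ (C.X i) hO hx
  haveI := Groth.L20.ModStalk.isLocalizedModule_germ (C.X (i + 1)) hO hx
  let F : Γ(C.X (i - 1), O) →ₗ[Γ(X, O)] Γ(C.X i, O) :=
    { toFun := (C.d (i - 1) i).app O
      map_add' := map_add ((C.d (i - 1) i).app O).hom
      map_smul' := fun a s => (C.d (i - 1) i).app_smul a s }
  let G : Γ(C.X i, O) →ₗ[Γ(X, O)] Γ(C.X (i + 1), O) :=
    { toFun := (C.d i (i + 1)).app O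
      map_add' := map_add ((C.d i (i + 1)).app O).hom
      map_smul' := fun a s => (C.d i (i + 1)).app_smul a s }
  have hFG : Function.Exact F G := he
  have hloc := IsLocalizedModule.map_exact S (Groth.L20.ModStalk.germₗ (C.X (i - 1)) hx)
    (Groth.L20.ModStalk.germₗ (C.X i) hx) (Groth.L20.ModStalk.germₗ (C.X (i + 1)) hx) F G hFG
  have key : ∀ (j k : ℤ) [Coh.IsQCoh (C.X j)] [Coh.IsQCoh (C.X k)],
      letI := Groth.L20.ModStalk.stalkModule (C.X j) hx
      letI := Groth.L20.ModStalk.stalkModule (C.X k) hx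
      ∀ (L : Γ(C.X j, O) →ₗ[Γ(X, O)] Γ(C.X k, O)), (∀ s, L s = (C.d j k).app O s) → ∀ z,
      haveI := Groth.L20.ModStalk.isLocalizedModule_germ (C.X j) hO hx
      haveI := Groth.L20.ModStalk.isLocalizedModule_germ (C.X k) hO hx
      IsLocalizedModule.map S (Groth.L20.ModStalk.germₗ (C.X j) hx) (Groth.L20.ModStalk.germₗ (C.X k) hx) L z =
        (((Groth.L00.Stk.S X x).obj C).d j k) z := by
    intro j k _ _
    letI := Groth.L20.ModStalk.stalkModule (C.X j) hx
    letI := Groth.L20.ModStalk.stalkModule (C.X k) hx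
    intro L hL z
    haveI := Groth.L20.ModStalk.isLocalizedModule_germ (C.X j) hO hx
    haveI := Groth.L20.ModStalk.isLocalizedModule_germ (C.X k) hO hx
    obtain ⟨⟨m, s⟩, hz⟩ := IsLocalizedModule.surj S (Groth.L20.ModStalk.germₗ (C.X j) hx) z
    let D : (C.X j).presheaf.stalk x →ₗ[Γ(X, O)] (C.X k).presheaf.stalk x :=
      { toFun := fun w => (((Groth.L00.Stk.S X x).obj C).d j k) w
        map_add' := map_add ((((Groth.L00.Stk.S X x).obj C).d j k)).hom
        map_smul' := fun a w => (((Groth.L00.Stk.S X x).obj C).d j k).hom.map_smul (X.presheaf.germ O x hx a) w }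
    have : IsLocalizedModule.map S (Groth.L20.ModStalk.germₗ (C.X j) hx) (Groth.L20.ModStalk.germₗ (C.X k) hx) L = D := by
      refine IsLocalizedModule.linearMap_ext S (Groth.L20.ModStalk.germₗ (C.X j) hx)
        (Groth.L20.ModStalk.germₗ (C.X k) hx) (LinearMap.ext fun w => ?_)
      show IsLocalizedModule.map S _ _ L (Groth.L20.ModStalk.germₗ (C.X j) hx w) = D _
      rw [IsLocalizedModule.map_apply, hL]
      exact (TopCat.Presheaf.stalkFunctor_map_germ_apply O x hx (C.d j k).mapPresheaf w).symm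
    exact LinearMap.congr_fun this z
  intro z
  rw [← key i (i + 1) G (fun _ => rfl)]
  refine (hloc z).trans ?_
  exact ⟨fun ⟨w, hw⟩ => ⟨w, (key (i - 1) i F (fun _ => rfl) w).symm.trans hw⟩,
    fun ⟨w, hw⟩ => ⟨w, (key (i - 1) i F (fun _ => rfl) w).trans hw⟩⟩

/-- The cone has quasi-coherent terms. -/
theorem isQCoh_cone {K L : CochainComplex X.Modules ℤ} (φ : K ⟶ L) (hK : ∀ i, Coh.IsQCoh (K.X i))
    (hL : ∀ i, Coh.IsQCoh (L.X i)) (i : ℤ) : Coh.IsQCoh ((CochainComplex.mappingCone φ).X i) :=
  Groth.L29.DC.isQCoh_of_iso' (HomologicalComplex.homotopyCofiber.XIsoBiprod φ i (i + 1) rfl).symm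
    (Groth.L17.QCohExtension.isQCoh_extension (ShortComplex.mk biprod.inl biprod.snd (by simp))
      (ShortComplex.Splitting.shortExact
        { r := biprod.fst, s := biprod.inr, f_r := biprod.inl_fst, s_g := biprod.inr_snd, id := biprod.total })
      (hK (i + 1)) (hL i))

/-- Affine sections of a quasi-isomorphism of complexes of quasi-coherent modules. -/
theorem quasiIso_sec {O : X.Opens} (hO : IsAffineOpen O) {K L : CochainComplex X.Modules ℤ} (φ : K ⟶ L) [QuasiIso φ]
    (hK : ∀ i, Coh.IsQCoh (K.X i)) (hL : ∀ i, Coh.IsQCoh (L.X i)) : QuasiIso ((secCx ρ O).map φ) :=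
  Groth.L00.Cell.quasiIso_of_acyclic_cone _ fun i =>
    (isZero_sec ρ hO _ (isQCoh_cone φ hK hL) (Groth.L00.ConeTransfer.acyclic_cone φ) i).of_iso
      (asIso (HomologicalComplex.homologyMap
        (CochainComplex.mappingCone.mapHomologicalComplexIso φ (secF ρ O)).hom i)).symm

/-- A quasi-isomorphism is detected on affine sections. -/
theorem quasiIso_of_sec {K L : CochainComplex X.Modules ℤ} (φ : K ⟶ L)
    (hK : ∀ i, Coh.IsQCoh (K.X i)) (hL : ∀ i, Coh.IsQCoh (L.X i))
    (h : ∀ x : X, ∃ O : X.Opens, x ∈ O ∧ IsAffineOpen O ∧ QuasiIso ((secCx ρ O).map φ)) : QuasiIso φ :=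
  Groth.L00.Cell.quasiIso_of_acyclic_cone _ fun i =>
    isZero_of_sec ρ _ (isQCoh_cone φ hK hL) (fun x => by
      obtain ⟨O, hx, hO, hq⟩ := h x
      haveI := hq
      exact ⟨O, hx, hO, fun j => (Groth.L00.ConeTransfer.acyclic_cone ((secCx ρ O).map φ) j).of_iso
        (asIso (HomologicalComplex.homologyMap
          (CochainComplex.mappingCone.mapHomologicalComplexIso φ (secF ρ O)).hom j))⟩) i

end Groth.L17.HTorRG.SecExact
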