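import Mathlib.Algebra.Homology.Bifunctor
import Mathlib.Algebra.Homology.Additive
import Mathlib.Algebra.Homology.ComplexShapeSigns
import Mathlib.Data.Int.Interval

/-!
An additive functor commutes with the total complex of a bifunctor on bounded above complexes.
-/

set_option autoImplicit false
set_option linter.unusedSectionVars false
set_option quotPrecheck false
set_option backward.defeqAttrib.useBackward true
set_option backward.isDefEq.respectTransparency false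
set_option backward.isDefEq.respectTransparency.types false

open CategoryTheory CategoryTheory.Limits HomologicalComplex

noncomputable section

namespace Groth.L17.HTorRG.Total

universe v v'

local notation "c" => ComplexShape.up ℤ

variable {C₁ C₂ C₁' C₂' : Type*} [Category C₁] [Category C₂] [Category C₁'] [Category C₂']
  {D : Type*} [Category.{v} D] {E : Type*} [Category.{v'} E]
  [Preadditive C₁] [Preadditive C₂] [Preadditive C₁'] [Preadditive C₂'] [Preadditive D] [Preadditive E]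
  (F : C₁ ⥤ C₂ ⥤ D) [F.Additive] [∀ X, (F.obj X).Additive]
  (F' : C₁' ⥤ C₂' ⥤ E) [F'.Additive] [∀ X, (F'.obj X).Additive]
  (G₁ : C₁ ⥤ C₁') (G₂ : C₂ ⥤ C₂') (G : D ⥤ E) [G₁.Additive] [G₂.Additive] [G.Additive]
  (β : ∀ X Y, (F'.obj (G₁.obj X)).obj (G₂.obj Y) ⟶ G.obj ((F.obj X).obj Y))
  (hβ₁ : ∀ {X X' : C₁} (f : X ⟶ X') (Y : C₂),
    (F'.map (G₁.map f)).app (G₂.obj Y) ≫ β X' Y = β X Y ≫ G.map ((F.map f).app Y))
  (hβ₂ : ∀ (X : C₁) {Y Y' : C₂} (g : Y ⟶ Y'),
    (F'.obj (G₁.obj X)).map (G₂.map g) ≫ β X Y' = β X Y ≫ G.map ((F.obj X).map g))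

section

variable (K₁ : CochainComplex C₁ ℤ) (K₂ : CochainComplex C₂ ℤ)

local notation "Z" => HomologicalComplex.mapBifunctor K₁ K₂ F c
local notation "L₁" => (G₁.mapHomologicalComplex c).obj K₁
local notation "L₂" => (G₂.mapHomologicalComplex c).obj K₂

variable [HasMapBifunctor K₁ K₂ F c]
  [HasMapBifunctor ((G₁.mapHomologicalComplex c).obj K₁) ((G₂.mapHomologicalComplex c).obj K₂) F' c]

/-- The comparison in one degree. -/
def compX (j : ℤ) : (HomologicalComplex.mapBifunctor L₁ L₂ F' c).X j ⟶ G.obj ((Z).X j) :=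
  mapBifunctorDesc fun i₁ i₂ h => β (K₁.X i₁) (K₂.X i₂) ≫ G.map (ιMapBifunctor K₁ K₂ F c i₁ i₂ j h)

theorem ι_compX (i₁ i₂ : ℤ) (j : ℤ) (h : ComplexShape.π c c c (i₁, i₂) = j) :
    ιMapBifunctor L₁ L₂ F' c i₁ i₂ j h ≫ compX F F' G₁ G₂ G β K₁ K₂ j =
      β (K₁.X i₁) (K₂.X i₂) ≫ G.map (ιMapBifunctor K₁ K₂ F c i₁ i₂ j h) :=
  ι_mapBifunctorDesc _ i₁ i₂ h

include hβ₁ in
theorem d₁_compX (i₁ i₂ : ℤ) (j : ℤ) (h : i₁ + i₂ + 1 = j) :
    HomologicalComplex.mapBifunctor.d₁ L₁ L₂ F' c i₁ i₂ j ≫ compX F F' G₁ G₂ G β K₁ K₂ j =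
      β (K₁.X i₁) (K₂.X i₂) ≫ G.map (HomologicalComplex.mapBifunctor.d₁ K₁ K₂ F c i₁ i₂ j) := by
  have hr : (c).Rel i₁ (i₁ + 1) := rfl
  have hj : ComplexShape.π c c c (i₁ + 1, i₂) = j := by show i₁ + 1 + i₂ = j; omega
  rw [mapBifunctor.d₁_eq _ _ _ _ hr _ _ hj, mapBifunctor.d₁_eq _ _ _ _ hr _ _ hj, Linear.units_smul_comp,
    Category.assoc, ι_compX, Units.smul_def, Units.smul_def, Functor.map_zsmul, Preadditive.comp_zsmul,
    Functor.map_comp, ← Category.assoc, ← Category.assoc]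
  congr 2
  exact hβ₁ _ _

include hβ₂ in
theorem d₂_compX (i₁ i₂ : ℤ) (j : ℤ) (h : i₁ + i₂ + 1 = j) :
    HomologicalComplex.mapBifunctor.d₂ L₁ L₂ F' c i₁ i₂ j ≫ compX F F' G₁ G₂ G β K₁ K₂ j =
      β (K₁.X i₁) (K₂.X i₂) ≫ G.map (HomologicalComplex.mapBifunctor.d₂ K₁ K₂ F c i₁ i₂ j) := by
  have hr : (c).Rel i₂ (i₂ + 1) := rfl
  have hj : ComplexShape.π c c c (i₁, i₂ + 1) = j := by show i₁ + (i₂ + 1) = j; omega
  rw [mapBifunctor.d₂_eq _ _ _ _ _ hr _ hj, mapBifunctor.d₂_eq _ _ _ _ _ hr _ hj, Linear.units_smul_comp,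
    Category.assoc, ι_compX, Units.smul_def, Units.smul_def, Functor.map_zsmul, Preadditive.comp_zsmul,
    Functor.map_comp, ← Category.assoc, ← Category.assoc]
  congr 2
  exact hβ₂ _ _

include hβ₁ hβ₂ in
/-- The comparison of total complexes. -/
def comp : HomologicalComplex.mapBifunctor L₁ L₂ F' c ⟶ (G.mapHomologicalComplex c).obj (Z) where
  f := compX F F' G₁ G₂ G β K₁ K₂
  comm' j j' hjj' := by
    apply mapBifunctor.hom_ext
    intro i₁ i₂ h
    have hh : i₁ + i₂ + 1 = j' := by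
      have h1 : i₁ + i₂ = j := h
      have h2 : j + 1 = j' := hjj'
      omega
    change ιMapBifunctor L₁ L₂ F' c i₁ i₂ j h ≫ compX F F' G₁ G₂ G β K₁ K₂ j ≫ G.map ((Z).d j j') =
      ιMapBifunctor L₁ L₂ F' c i₁ i₂ j h ≫ _ ≫ compX F F' G₁ G₂ G β K₁ K₂ j'
    rw [← Category.assoc, ι_compX, Category.assoc, ← G.map_comp, mapBifunctor.d_eq, mapBifunctor.d_eq,
      Preadditive.comp_add, Preadditive.add_comp, Preadditive.comp_add]
    rw [← Category.assoc (f := ιMapBifunctor L₁ L₂ F' c i₁ i₂ j h),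
      ← Category.assoc (f := ιMapBifunctor L₁ L₂ F' c i₁ i₂ j h), mapBifunctor.ι_D₁,
      mapBifunctor.ι_D₂, mapBifunctor.ι_D₁, mapBifunctor.ι_D₂, d₁_compX F F' G₁ G₂ G β hβ₁ _ _ _ _ _ hh,
      d₂_compX F F' G₁ G₂ G β hβ₂ _ _ _ _ _ hh, G.map_add, Preadditive.comp_add]

/-- Projection to a summand. -/
def pr (j p q : ℤ) (h : p + q = j) : (Z).X j ⟶ (F.obj (K₁.X p)).obj (K₂.X q) :=
  mapBifunctorDesc fun i i' hi =>
    if hp : i = p then
      eqToHom (by
        obtain rfl : i' = q := by change i + i' = j at hi; omega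
        rw [hp])
    else 0

theorem ι_pr_self (j p q : ℤ) (h : p + q = j) :
    ιMapBifunctor K₁ K₂ F c p q j h ≫ pr F K₁ K₂ j p q h = 𝟙 _ := by simp [pr]

theorem ι_pr_ne (j i i' p q : ℤ) (hi : i + i' = j) (h : p + q = j) (hne : i ≠ p) :
    ιMapBifunctor K₁ K₂ F c i i' j hi ≫ pr F K₁ K₂ j p q h = 0 := by simp [pr, hne]

theorem sum_pr (b₁ b₂ : ℤ) (h₁ : ∀ i, b₁ < i → IsZero (K₁.X i)) (h₂ : ∀ i, b₂ < i → IsZero (K₂.X i)) (j : ℤ) :
    𝟙 ((Z).X j) = ∑ p ∈ Finset.Icc (j - b₂) b₁,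
      pr F K₁ K₂ j p (j - p) (by omega) ≫ ιMapBifunctor K₁ K₂ F c p (j - p) j (by show p + (j - p) = j; omega) := by
  apply mapBifunctor.hom_ext
  intro i i' hi
  have hii : i + i' = j := hi
  rw [Category.comp_id, Preadditive.comp_sum]
  by_cases hm : i ∈ Finset.Icc (j - b₂) b₁
  · rw [Finset.sum_eq_single i (fun p _ hne => by rw [← Category.assoc, ι_pr_ne F K₁ K₂ j i i' p _ hii (by omega) hne.symm, zero_comp])
      (fun hn => absurd hm hn)]
    obtain rfl : i' = j - i := by omega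
    rw [← Category.assoc, ι_pr_self, Category.id_comp]
  · simp only [Finset.mem_Icc, not_and_or, not_le] at hm
    refine IsZero.eq_of_src ?_ _ _
    rcases hm with hm | hm
    · exact (F.obj (K₁.X i)).map_isZero (h₂ i' (by omega))
    · exact (IsZero.iff_id_eq_zero _).2 (by
        rw [← NatTrans.id_app, ← CategoryTheory.Functor.map_id, (IsZero.iff_id_eq_zero _).1 (h₁ i hm),
          Functor.map_zero]
        rfl)

include hβ₁ hβ₂ in
/-- The comparison is bijective for bounded above complexes, when it is on every summand. -/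
theorem isIso_comp (b₁ b₂ : ℤ) (h₁ : ∀ i, b₁ < i → IsZero (K₁.X i)) (h₂ : ∀ i, b₂ < i → IsZero (K₂.X i))
    [∀ p q, IsIso (β (K₁.X p) (K₂.X q))] : IsIso (comp F F' G₁ G₂ G β hβ₁ hβ₂ K₁ K₂) := by
  haveI : ∀ j, IsIso ((comp F F' G₁ G₂ G β hβ₁ hβ₂ K₁ K₂).f j) := fun j => by
    show IsIso (compX F F' G₁ G₂ G β K₁ K₂ j)
    refine ⟨∑ p ∈ Finset.Icc (j - b₂) b₁, G.map (pr F K₁ K₂ j p (j - p) (by omega)) ≫
      inv (β (K₁.X p) (K₂.X (j - p))) ≫ ιMapBifunctor L₁ L₂ F' c p (j - p) j (by show p + (j - p) = j; omega), ?_, ?_⟩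
    · apply mapBifunctor.hom_ext
      intro i i' hi
      have hii : i + i' = j := hi
      rw [Category.comp_id, ← Category.assoc, ι_compX, Category.assoc, Preadditive.comp_sum, Preadditive.comp_sum]
      by_cases hm : i ∈ Finset.Icc (j - b₂) b₁
      · rw [Finset.sum_eq_single i (fun p _ hne => by
          rw [← Category.assoc (f := G.map _), ← G.map_comp, ι_pr_ne F K₁ K₂ j i i' p _ hii (by omega) hne.symm,
            G.map_zero, zero_comp, comp_zero]) (fun hn => absurd hm hn)]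
        obtain rfl : i' = j - i := by omega
        rw [← Category.assoc (f := G.map _), ← G.map_comp, ι_pr_self, G.map_id, Category.id_comp,
          IsIso.hom_inv_id_assoc]
      · simp only [Finset.mem_Icc, not_and_or, not_le] at hm
        refine IsZero.eq_of_src ?_ _ _
        refine (G.map_isZero ?_).of_iso (asIso (β (K₁.X i) (K₂.X i')))
        rcases hm with hm | hm
        · exact (F.obj (K₁.X i)).map_isZero (h₂ i' (by omega))
        · exact (IsZero.iff_id_eq_zero _).2 (by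
            rw [← NatTrans.id_app, ← CategoryTheory.Functor.map_id, (IsZero.iff_id_eq_zero _).1 (h₁ i hm),
              Functor.map_zero]
            rfl)
    · have h := congrArg G.map (sum_pr F K₁ K₂ b₁ b₂ h₁ h₂ j)
      rw [G.map_id, G.map_sum] at h
      refine Eq.trans ?_ h.symm
      rw [Preadditive.sum_comp]
      refine Finset.sum_congr rfl fun p _ => ?_
      rw [Category.assoc, Category.assoc, ι_compX, IsIso.inv_hom_id_assoc, ← G.map_comp]
  exact HomologicalComplex.Hom.isIso_of_components _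

end

section Natural

variable {K₁ M₁ : CochainComplex C₁ ℤ} {K₂ M₂ : CochainComplex C₂ ℤ} (f₁ : K₁ ⟶ M₁) (f₂ : K₂ ⟶ M₂)
  [HasMapBifunctor K₁ K₂ F c] [HasMapBifunctor M₁ M₂ F c]
  [HasMapBifunctor ((G₁.mapHomologicalComplex c).obj K₁) ((G₂.mapHomologicalComplex c).obj K₂) F' c]
  [HasMapBifunctor ((G₁.mapHomologicalComplex c).obj M₁) ((G₂.mapHomologicalComplex c).obj M₂) F' c]

include hβ₁ hβ₂ in
/-- Naturality of the comparison. -/
theorem comp_natural :
    mapBifunctorMap ((G₁.mapHomologicalComplex c).map f₁) ((G₂.mapHomologicalComplex c).map f₂) F' c ≫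
        comp F F' G₁ G₂ G β hβ₁ hβ₂ M₁ M₂ =
      comp F F' G₁ G₂ G β hβ₁ hβ₂ K₁ K₂ ≫ (G.mapHomologicalComplex c).map (mapBifunctorMap f₁ f₂ F c) := by
  refine HomologicalComplex.hom_ext _ _ fun j => ?_
  apply mapBifunctor.hom_ext
  intro i i' h
  show ιMapBifunctor _ _ F' c i i' j h ≫ _ ≫ compX F F' G₁ G₂ G β M₁ M₂ j =
    ιMapBifunctor _ _ F' c i i' j h ≫ compX F F' G₁ G₂ G β K₁ K₂ j ≫ G.map ((mapBifunctorMap f₁ f₂ F c).f j)
  rw [ι_mapBifunctorMap_assoc, ι_compX, ← Category.assoc (f := ιMapBifunctor _ _ F' c i i' j h), ι_compX,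
    Category.assoc, ← G.map_comp, ι_mapBifunctorMap, G.map_comp, G.map_comp]
  show (F'.map (G₁.map (f₁.f i))).app _ ≫ (F'.obj _).map (G₂.map (f₂.f i')) ≫ _ = _
  rw [← Category.assoc ((F'.obj _).map _), hβ₂, Category.assoc, ← Category.assoc ((F'.map _).app _), hβ₁,
    Category.assoc]

end Natural

end Groth.L17.HTorRG.Total
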