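import Groth.Agent.L17.HTor.Pairing
import Groth.Agent.L17.HTor.Total
import Groth.Agent.L17.HTor.SecExact
import Groth.Agent.L17.HTor.BaseChange
import Groth.Agent.L28.TensorQis
import Groth.Agent.L10.KFlat.Res

/-!
Sections of external tensor products of complexes.
-/

set_option autoImplicit false
set_option linter.style.haveILetI false
set_option linter.unusedSectionVars false
set_option backward.defeqAttrib.useBackward true
set_option backward.isDefEq.respectTransparency false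
set_option backward.isDefEq.respectTransparency.types false

universe u

open CategoryTheory CategoryTheory.Limits MonoidalCategory AlgebraicGeometry TopologicalSpace Opposite
open scoped TensorProduct

attribute [local instance] HasDerivedCategory.standard

noncomputable section

namespace Groth.L17.HTorRG.Ext

open Groth.L18.Frame (rs ro pull rs_rs rs_self)
open Groth.L18.GenLoc (tens)
open Groth.L17.BC (Sec)
open Groth.L17.HTorRG.SecExact (secF secCx)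
open Groth.L17.HTorRG.Pairing (pair Bx)

local notation "cc" => ComplexShape.up ℤ

variable {A : Type u} [CommRing A] {X₁ X₂ X' : Scheme.{u}} (f₁ : X₁ ⟶ Spec (CommRingCat.of A))
  (f₂ : X₂ ⟶ Spec (CommRingCat.of A)) (p₁ : X' ⟶ X₁) (p₂ : X' ⟶ X₂) (sq : IsPullback p₁ p₂ f₁ f₂)

instance additive_pull {Y Y' : Scheme.{u}} (g : Y' ⟶ Y) : (Scheme.Modules.pullback g).Additive :=
  Groth.L17.CxTools.additive_pullback g

/-- The external tensor bifunctor. -/
def extBi : X₁.Modules ⥤ X₂.Modules ⥤ X'.Modules :=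
  Scheme.Modules.pullback p₁ ⋙ DCoh.tensorBi ⋙ (Functor.whiskeringLeft _ _ _).obj (Scheme.Modules.pullback p₂)

instance additive_extBi : (extBi p₁ p₂).Additive := by unfold extBi; infer_instance

instance additive_extBi_obj (Z : X₁.Modules) : ((extBi p₁ p₂).obj Z).Additive :=
  inferInstanceAs (Scheme.Modules.pullback p₂ ⋙
    (DCoh.tensorBi (X := X')).obj ((Scheme.Modules.pullback p₁).obj Z)).Additive

variable (W : X₁.Opens) (V : X₂.Opens) (O : X'.Opens) (e₁ : O ≤ p₁ ⁻¹ᵁ W) (e₂ : O ≤ p₂ ⁻¹ᵁ V)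

/-- The comparison on summands. -/
def β (Z : X₁.Modules) (G : X₂.Modules) :
    ((curriedTensor (ModuleCat.{u} A)).obj ((secF (Coh.toGlobal f₁) W).obj Z)).obj
        ((secF (Coh.toGlobal f₂) V).obj G) ⟶
      (secF (Coh.toGlobal (p₁ ≫ f₁)) O).obj (((extBi p₁ p₂).obj Z).obj G) :=
  ModuleCat.ofHom (pair f₁ f₂ p₁ p₂ sq Z G W V O e₁ e₂)

theorem β_left {Z Z' : X₁.Modules} (φ : Z ⟶ Z') (G : X₂.Modules) :
    ((curriedTensor (ModuleCat.{u} A)).map ((secF (Coh.toGlobal f₁) W).map φ)).app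
        ((secF (Coh.toGlobal f₂) V).obj G) ≫ β f₁ f₂ p₁ p₂ sq W V O e₁ e₂ Z' G =
      β f₁ f₂ p₁ p₂ sq W V O e₁ e₂ Z G ≫
        (secF (Coh.toGlobal (p₁ ≫ f₁)) O).map (((extBi p₁ p₂).map φ).app G) := by
  refine ModuleCat.hom_ext (TensorProduct.ext' fun s t => ?_)
  show tens _ _ O (rs _ e₁ (pull p₁ Z' W (φ.app W (show Γ(Z, W) from s)))) (rs _ e₂ (pull p₂ G V t)) =
    (((DCoh.tensorBi (X := X')).map ((Scheme.Modules.pullback p₁).map φ)).app
      ((Scheme.Modules.pullback p₂).obj G)).app O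
        (tens _ _ O (rs _ e₁ (pull p₁ Z W s)) (rs _ e₂ (pull p₂ G V t)))
  rw [Groth.L29.DC.tensorBi_map]
  refine Eq.trans ?_ (Groth.L17.ClosedPush.tensorMap_unit _ _ O _ _).symm
  exact congrArg (fun a => tens _ _ O a _) ((congrArg (rs _ e₁)
    (Groth.L17.BC.PullSec.map_pull p₁ φ W (show Γ(Z, W) from s)).symm).trans
      (Groth.L17.BC.PullSec.app_rs _ e₁ _).symm)

theorem β_right (Z : X₁.Modules) {G G' : X₂.Modules} (φ : G ⟶ G') :
    ((curriedTensor (ModuleCat.{u} A)).obj ((secF (Coh.toGlobal f₁) W).obj Z)).map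
        ((secF (Coh.toGlobal f₂) V).map φ) ≫ β f₁ f₂ p₁ p₂ sq W V O e₁ e₂ Z G' =
      β f₁ f₂ p₁ p₂ sq W V O e₁ e₂ Z G ≫
        (secF (Coh.toGlobal (p₁ ≫ f₁)) O).map (((extBi p₁ p₂).obj Z).map φ) := by
  refine ModuleCat.hom_ext (TensorProduct.ext' fun s t => ?_)
  show tens _ _ O (rs _ e₁ (pull p₁ Z W s)) (rs _ e₂ (pull p₂ G' V (φ.app V (show Γ(G, V) from t)))) =
    (((DCoh.tensorBi (X := X')).obj ((Scheme.Modules.pullback p₁).obj Z)).map
      ((Scheme.Modules.pullback p₂).map φ)).app O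
        (tens _ _ O (rs _ e₁ (pull p₁ Z W s)) (rs _ e₂ (pull p₂ G V t)))
  rw [Groth.L29.DC.tensorBi_obj_map]
  refine Eq.trans ?_ (Groth.L17.ClosedPush.tensorMap_unit _ _ O _ _).symm
  exact congrArg (tens _ _ O _) ((congrArg (rs _ e₂)
    (Groth.L17.BC.PullSec.map_pull p₂ φ V (show Γ(G, V) from t)).symm).trans
      (Groth.L17.BC.PullSec.app_rs _ e₂ _).symm)

variable (P : CochainComplex X₁.Modules ℤ) (Q : CochainComplex X₂.Modules ℤ)

/-- The external tensor product of complexes. -/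
abbrev extCx : CochainComplex X'.Modules ℤ :=
  (DCoh.tensorCx.obj ((HTor.pullCx p₁).obj P)).obj ((HTor.pullCx p₂).obj Q)

/-- The comparison of complexes. -/
def comp : HTor.tensorCx ((secCx (Coh.toGlobal f₁) W).obj P) ((secCx (Coh.toGlobal f₂) V).obj Q) ⟶
    (secCx (Coh.toGlobal (p₁ ≫ f₁)) O).obj (extCx p₁ p₂ P Q) :=
  Total.comp (extBi p₁ p₂) (curriedTensor (ModuleCat.{u} A)) (secF (Coh.toGlobal f₁) W) (secF (Coh.toGlobal f₂) V)
    (secF (Coh.toGlobal (p₁ ≫ f₁)) O) (β f₁ f₂ p₁ p₂ sq W V O e₁ e₂)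
    (fun {_ _} φ G => β_left f₁ f₂ p₁ p₂ sq W V O e₁ e₂ φ G)
    (fun Z {_ _} φ => β_right f₁ f₂ p₁ p₂ sq W V O e₁ e₂ Z φ) P Q

theorem isIso_comp (b₁ b₂ : ℤ) (h₁ : ∀ i, b₁ < i → IsZero (P.X i)) (h₂ : ∀ i, b₂ < i → IsZero (Q.X i))
    (hb : ∀ i j, Function.Bijective (pair f₁ f₂ p₁ p₂ sq (P.X i) (Q.X j) W V O e₁ e₂)) :
    IsIso (comp f₁ f₂ p₁ p₂ sq W V O e₁ e₂ P Q) := by
  haveI : ∀ i j, IsIso (β f₁ f₂ p₁ p₂ sq W V O e₁ e₂ (P.X i) (Q.X j)) := fun i j =>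
    (ConcreteCategory.isIso_iff_bijective _).2 (hb i j)
  exact Total.isIso_comp (extBi p₁ p₂) (curriedTensor (ModuleCat.{u} A)) (secF (Coh.toGlobal f₁) W)
    (secF (Coh.toGlobal f₂) V) (secF (Coh.toGlobal (p₁ ≫ f₁)) O) _ _ _ P Q b₁ b₂ h₁ h₂

variable {P} {Q} {P' : CochainComplex X₁.Modules ℤ} {Q' : CochainComplex X₂.Modules ℤ} (s : P ⟶ P') (t : Q ⟶ Q')

/-- The map of external tensor products. -/
abbrev extMap : extCx p₁ p₂ P Q ⟶ extCx p₁ p₂ P' Q' :=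
  HomologicalComplex.mapBifunctorMap ((HTor.pullCx p₁).map s) ((HTor.pullCx p₂).map t) DCoh.tensorBi cc

theorem comp_natural :
    HomologicalComplex.tensorHom ((secCx (Coh.toGlobal f₁) W).map s) ((secCx (Coh.toGlobal f₂) V).map t) ≫
        comp f₁ f₂ p₁ p₂ sq W V O e₁ e₂ P' Q' =
      comp f₁ f₂ p₁ p₂ sq W V O e₁ e₂ P Q ≫
        (secCx (Coh.toGlobal (p₁ ≫ f₁)) O).map (extMap p₁ p₂ s t) :=
  Total.comp_natural (extBi p₁ p₂) (curriedTensor (ModuleCat.{u} A)) (secF (Coh.toGlobal f₁) W)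
    (secF (Coh.toGlobal f₂) V) (secF (Coh.toGlobal (p₁ ≫ f₁)) O) _ _ _ s t

theorem adm_isQCoh {Y : Scheme.{u}} : Res.Adm (fun M : Y.Modules => Coh.IsQCoh M) :=
  ⟨fun _ => Acyc.isQCoh_of_isZero, fun _ _ => Acyc.isQCoh_biprod, fun _ _ => Acyc.isQCoh_retract⟩

theorem adm_acyc {Y : Scheme.{u}} : Res.Adm (fun M : Y.Modules => Acyc.IsAcyc M) :=
  ⟨fun _ => Acyc.acyc_zero, fun _ _ => Acyc.acyc_biprod, fun _ _ => Acyc.acyc_retract⟩

/-- An admissible class contains what is a finite sum through it. -/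
theorem mem_of_sum {C : Type*} [Category C] [Abelian C] {R : C → Prop} (hR : Res.Adm R) {M : C} {ι : Type}
    [DecidableEq ι] (S : Finset ι) (Y : ι → C) (a : ∀ i, M ⟶ Y i) (b : ∀ i, Y i ⟶ M) (hY : ∀ i, R (Y i))
    (h : 𝟙 M = ∑ i ∈ S, a i ≫ b i) : R M := by
  have : ∀ S : Finset ι, ∃ (Z : C) (u : M ⟶ Z) (v : Z ⟶ M), R Z ∧ u ≫ v = ∑ i ∈ S, a i ≫ b i := fun S => by
    induction S using Finset.induction with
    | empty => exact ⟨Limits.kernel (𝟙 M), 0, 0, hR.zero _ (isZero_kernel_of_mono _), by simp⟩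
    | insert i S hi ih =>
      obtain ⟨Z, u, v, hZ, huv⟩ := ih
      exact ⟨Y i ⊞ Z, biprod.lift (a i) u, biprod.desc (b i) v, hR.biprod _ _ (hY i) hZ,
        by rw [biprod.lift_desc, huv, Finset.sum_insert hi]⟩
  obtain ⟨Z, u, v, hZ, huv⟩ := this S
  exact hR.retract _ _ u v (huv.trans h.symm) hZ

/-- Tensor products of quasi-isomorphisms of bounded above complexes, the first ones flat. -/
theorem quasiIso_tensorHom {L L' M M' : DRing.Cx A} (u : L ⟶ L') (v : M ⟶ M') [QuasiIso u] [QuasiIso v]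
    (a b : ℤ) (hL : ∀ i, a < i → IsZero (L.X i)) (hL' : ∀ i, a < i → IsZero (L'.X i))
    (hM : ∀ i, b < i → IsZero (M.X i)) (hM' : ∀ i, b < i → IsZero (M'.X i))
    [∀ i, Module.Flat A (L.X i)] [∀ i, Module.Flat A (L'.X i)] :
    QuasiIso (HomologicalComplex.tensorHom u v) := by
  obtain ⟨F, r, hF, hfree, hr⟩ := Groth.L02.PC.exists_free_resolution M b hM
  haveI := hr
  haveI : QuasiIso (L ◁ r) := Groth.L28.TensorQis.quasiIso L r a b hL hF hM
  haveI : QuasiIso (L' ◁ r) := Groth.L28.TensorQis.quasiIso L' r a b hL' hF hM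
  haveI : QuasiIso (L' ◁ v) := Groth.L28.TensorQis.quasiIso L' v a b hL' hM hM'
  haveI : QuasiIso (u ▷ F) := Groth.L10.KFlat.quasiIso_whiskerRight u
    (Groth.L10.KFlat.of_bounded F b hF (Groth.L10.DR.flat_of_free hfree))
  haveI : QuasiIso ((L ◁ r) ≫ (u ▷ M)) := by
    rw [MonoidalCategory.whisker_exchange]; infer_instance
  haveI : QuasiIso (u ▷ M) := quasiIso_of_comp_left (L ◁ r) (u ▷ M)
  show QuasiIso (u ⊗ₘ v)
  rw [MonoidalCategory.tensorHom_def]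
  infer_instance

/-- Admissible classes contain the terms of external tensor products of bounded above complexes. -/
theorem mem_extCx {R : X'.Modules → Prop} (hR : Res.Adm R) (b₁ b₂ : ℤ) (h₁ : ∀ i, b₁ < i → IsZero (P.X i))
    (h₂ : ∀ i, b₂ < i → IsZero (Q.X i))
    (h : ∀ i j, R (Bx p₁ p₂ (P.X i) (Q.X j))) (n : ℤ) : R ((extCx p₁ p₂ P Q).X n) :=
  mem_of_sum hR (Finset.Icc (n - b₂) b₁) (fun p => Bx p₁ p₂ (P.X p) (Q.X (n - p)))
    (fun p => Total.pr (DCoh.tensorBi (X := X')) ((HTor.pullCx p₁).obj P) ((HTor.pullCx p₂).obj Q) n p (n - p) (by omega))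
    (fun p => HomologicalComplex.ιMapBifunctor ((HTor.pullCx p₁).obj P) ((HTor.pullCx p₂).obj Q) DCoh.tensorBi cc
      p (n - p) n (show p + (n - p) = n by omega)) (fun p => h p (n - p))
    (Total.sum_pr (DCoh.tensorBi (X := X')) ((HTor.pullCx p₁).obj P) ((HTor.pullCx p₂).obj Q) b₁ b₂
      (fun i hi => (Scheme.Modules.pullback p₁).map_isZero (h₁ i hi))
      (fun i hi => (Scheme.Modules.pullback p₂).map_isZero (h₂ i hi)) n)

theorem isQCoh_Bx (Z : X₁.Modules) (G : X₂.Modules) [Coh.IsQCoh Z] [Coh.IsQCoh G] : Coh.IsQCoh (Bx p₁ p₂ Z G) := by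
  haveI := Groth.L16.AffineBC.isQCoh_pullback p₁ Z
  haveI := Groth.L16.AffineBC.isQCoh_pullback p₂ G
  exact Groth.L00.Tensor.isQCoh_tensorMod _ _

variable [IsSeparated f₁] [QuasiCompact f₁]

include sq in
/-- Acyclicity of external tensor products. -/
theorem acyc_Bx [IsSeparated f₂] [QuasiCompact f₂] (Z : X₁.Modules) (G : X₂.Modules) [Coh.IsQCoh Z] [Coh.IsQCoh G]
    (hfl : FlatMod.IsFlatOver f₁ Z) (hZ : Acyc.IsAcyc Z) (hG : Acyc.IsAcyc G) : Acyc.IsAcyc (Bx p₁ p₂ Z G) := by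
  haveI : CompactSpace X₁ := QuasiCompact.compactSpace_of_compactSpace f₁
  haveI : CompactSpace X₂ := QuasiCompact.compactSpace_of_compactSpace f₂
  haveI : QuasiSeparatedSpace X₁ := quasiSeparatedSpace_of_quasiSeparated f₁
  haveI : QuasiSeparatedSpace X₂ := quasiSeparatedSpace_of_quasiSeparated f₂
  haveI : QuasiCompact p₂ := MorphismProperty.of_isPullback (P := @QuasiCompact) sq inferInstance
  haveI : IsSeparated p₂ := MorphismProperty.of_isPullback (P := @IsSeparated) sq inferInstance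
  haveI : QuasiSeparatedSpace X' := quasiSeparatedSpace_of_quasiSeparated (p₂ ≫ f₂)
  letI : X₁.Over (Spec (CommRingCat.of A)) := ⟨f₁⟩
  letI : X₂.Over (Spec (CommRingCat.of A)) := ⟨f₂⟩
  letI : X'.Over (Spec (CommRingCat.of A)) := ⟨p₁ ≫ f₁⟩
  haveI : IsAffineHom (pullback.diagonal (X₁ ↘ Spec (CommRingCat.of A))) :=
    (inferInstance : IsAffineHom (pullback.diagonal f₁))
  intro n
  obtain ⟨e⟩ := Kun.exists_kunneth (A := A) p₁ p₂
    (show IsPullback p₁ p₂ (X₁ ↘ Spec (CommRingCat.of A)) (X₂ ↘ Spec (CommRingCat.of A)) from sq) rfl sq.w.symm G Z hfl (fun p => by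
    cases p with
    | zero => exact Kun.flat_HH_zero Z hfl fun p => by haveI := hZ p; infer_instance
    | succ p => haveI := hZ p; infer_instance) (n + 1)
  haveI : ∀ p : Fin (n + 1 + 1), Subsingleton (Coh.HH X₁ Z p.1 ⊗[A] Coh.HH X₂ G (n + 1 - p.1)) := fun p => by
    rcases p with ⟨_ | m, hm⟩
    · haveI := hG n
      exact inferInstanceAs (Subsingleton (Coh.HH X₁ Z 0 ⊗[A] Coh.HH X₂ G (n + 1)))
    · haveI := hZ m
      exact inferInstanceAs (Subsingleton (Coh.HH X₁ Z (m + 1) ⊗[A] Coh.HH X₂ G (n + 1 - (m + 1))))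
  exact e.symm.toEquiv.subsingleton

include sq in
/-- Quasi-isomorphisms of bounded above complexes, one flat over the base, stay after external tensor product. -/
theorem quasiIso_extMap [QuasiIso s] [QuasiIso t] (b₁ b₂ : ℤ)
    (hP : ∀ i, b₁ < i → IsZero (P.X i)) (hP' : ∀ i, b₁ < i → IsZero (P'.X i))
    (hQ : ∀ i, b₂ < i → IsZero (Q.X i)) (hQ' : ∀ i, b₂ < i → IsZero (Q'.X i))
    (qP : ∀ i, Coh.IsQCoh (P.X i)) (qP' : ∀ i, Coh.IsQCoh (P'.X i))
    (qQ : ∀ i, Coh.IsQCoh (Q.X i)) (qQ' : ∀ i, Coh.IsQCoh (Q'.X i))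
    (flP : ∀ i, FlatMod.IsFlatOver f₁ (P.X i)) (flP' : ∀ i, FlatMod.IsFlatOver f₁ (P'.X i)) :
    QuasiIso (extMap p₁ p₂ s t) := by
  refine SecExact.quasiIso_of_sec (Coh.toGlobal (p₁ ≫ f₁)) _
    (mem_extCx p₁ p₂ adm_isQCoh b₁ b₂ hP hQ fun i j => haveI := qP i; haveI := qQ j; isQCoh_Bx p₁ p₂ _ _)
    (mem_extCx p₁ p₂ adm_isQCoh b₁ b₂ hP' hQ' fun i j => haveI := qP' i; haveI := qQ' j; isQCoh_Bx p₁ p₂ _ _)
    fun x => ?_
  obtain ⟨_, ⟨W, hW, rfl⟩, hxW, -⟩ :=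
    X₁.isBasis_affineOpens.exists_subset_of_mem_open (Set.mem_univ (p₁ x)) isOpen_univ
  obtain ⟨_, ⟨V, hV, rfl⟩, hxV, -⟩ :=
    X₂.isBasis_affineOpens.exists_subset_of_mem_open (Set.mem_univ (p₂ x)) isOpen_univ
  let O := p₁ ⁻¹ᵁ W ⊓ p₂ ⁻¹ᵁ V
  haveI : IsAffine (Scheme.Opens.toScheme W) := hW
  haveI : IsAffine (Scheme.Opens.toScheme V) := hV
  haveI : IsAffine (⊤ : (Spec (CommRingCat.of A)).Opens).toScheme := isAffineOpen_top _
  have hO : IsAffineOpen O := IsAffine.of_isPullback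
    (Scheme.Hom.isPullback_resLE sq (UT := V) (US := ⊤) (UX := W) le_top le_top (UY := O) rfl)
  refine ⟨O, ⟨hxW, hxV⟩, hO, ?_⟩
  let Γ₁ := secCx (Coh.toGlobal f₁) W
  let Γ₂ := secCx (Coh.toGlobal f₂) V
  haveI := SecExact.quasiIso_sec (Coh.toGlobal f₁) hW s qP qP'
  haveI := SecExact.quasiIso_sec (Coh.toGlobal f₂) hV t qQ qQ'
  haveI hfP : ∀ i, Module.Flat A ((Γ₁.obj P).X i) := fun i => haveI := qP i; Groth.L17.BC.flat_sec f₁ _ (flP i) hW
  haveI hfP' : ∀ i, Module.Flat A ((Γ₁.obj P').X i) := fun i => haveI := qP' i; Groth.L17.BC.flat_sec f₁ _ (flP' i) hW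
  haveI : QuasiIso (HomologicalComplex.tensorHom (Γ₁.map s) (Γ₂.map t)) :=
    quasiIso_tensorHom (Γ₁.map s) (Γ₂.map t) b₁ b₂
      (fun i hi => (secF _ W).map_isZero (hP i hi)) (fun i hi => (secF _ W).map_isZero (hP' i hi))
      (fun i hi => (secF _ V).map_isZero (hQ i hi)) (fun i hi => (secF _ V).map_isZero (hQ' i hi))
  haveI := isIso_comp f₁ f₂ p₁ p₂ sq W V O inf_le_left inf_le_right P Q b₁ b₂ hP hQ
    (fun i j => haveI := qP i; haveI := qQ j; Pairing.bijective_affine f₁ f₂ p₁ p₂ sq _ _ hW hV)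
  haveI := isIso_comp f₁ f₂ p₁ p₂ sq W V O inf_le_left inf_le_right P' Q' b₁ b₂ hP' hQ'
    (fun i j => haveI := qP' i; haveI := qQ' j; Pairing.bijective_affine f₁ f₂ p₁ p₂ sq _ _ hW hV)
  haveI : QuasiIso (comp f₁ f₂ p₁ p₂ sq W V O inf_le_left inf_le_right P Q ≫
      (secCx (Coh.toGlobal (p₁ ≫ f₁)) O).map (extMap p₁ p₂ s t)) := by
    rw [← comp_natural]; infer_instance
  exact quasiIso_of_comp_left (comp f₁ f₂ p₁ p₂ sq W V O inf_le_left inf_le_right P Q) _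

end Groth.L17.HTorRG.Ext
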