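import Groth.Agent.L17.HTor.Ext

/-!
The Künneth formula in derived form over an affine base.
-/

set_option autoImplicit false
set_option linter.style.haveILetI false
set_option linter.unusedSectionVars false
set_option backward.defeqAttrib.useBackward true
set_option backward.isDefEq.respectTransparency false
set_option backward.isDefEq.respectTransparency.types false

universe u

open CategoryTheory CategoryTheory.Limits MonoidalCategory AlgebraicGeometry TopologicalSpace Opposite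

attribute [local instance] HasDerivedCategory.standard

noncomputable section

namespace Groth.L17.HTorRG.Kunneth

open Groth.L17.HTorRG.SecExact (secF secCx)

local notation "cc" => ComplexShape.up ℤ

variable {A : Type u} [CommRing A]

/-- Sections on the whole space. -/
def topIso {X : Scheme.{u}} (f : X ⟶ Spec (CommRingCat.of A)) :
    secF (Coh.toGlobal f) ⊤ ≅ HTor.globalSectionsA f :=
  NatIso.ofComponents (fun Z => (BaseChange.eΓ f Z).toModuleIso.symm) fun _ => rfl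

/-- Sections on the whole space of a complex. -/
def topIsoCx {X : Scheme.{u}} (f : X ⟶ Spec (CommRingCat.of A)) (T : CochainComplex X.Modules ℤ) :
    (secCx (Coh.toGlobal f) ⊤).obj T ≅ ((HTor.globalSectionsA f).mapHomologicalComplex cc).obj T :=
  (NatIso.mapHomologicalComplex (topIso f) cc).app T

/-- A map of complexes inducing a given isomorphism in the derived category. -/
theorem exists_quasiIso (L : DRing.Cx A) (hL : ∀ i, Projective (L.X i)) (b : ℤ) (hb : DRing.VanishesAbove L b)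
    {K : DRing.Cx A} (e : DRing.toD L ≅ DRing.toD K) : ∃ l : L ⟶ K, QuasiIso l := by
  haveI : L.IsKProjective :=
    haveI : L.IsStrictlyLE b := (CochainComplex.isStrictlyLE_iff L b).2 hb
    CochainComplex.isKProjective_of_projective L b
  obtain ⟨l, hl⟩ := Groth.L02.PC.exists_chainMap (P := L) (K := K) e.hom
  exact ⟨l, (DerivedCategory.isIso_Q_map_iff_quasiIso _ l).1 (by rw [hl]; infer_instance)⟩

variable {X₁ X₂ X' : Scheme.{u}} (f₁ : X₁ ⟶ Spec (CommRingCat.of A)) (f₂ : X₂ ⟶ Spec (CommRingCat.of A))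
  (p₁ : X' ⟶ X₁) (p₂ : X' ⟶ X₂) (sq : IsPullback p₁ p₂ f₁ f₂)
  [QuasiCompact f₁] [IsSeparated f₁] [QuasiCompact f₂] [IsSeparated f₂]
  [HTor.HasRΓA f₁] [HTor.HasRΓA f₂] [HTor.HasRΓA (p₁ ≫ f₁)]

include sq in
/-- The Künneth formula. -/
theorem computes_ext (P₁ : CochainComplex X₁.Modules ℤ) (P₂ : CochainComplex X₂.Modules ℤ)
    (hq₁ : ∀ i, Coh.IsQCoh (P₁.X i)) (hq₂ : ∀ i, Coh.IsQCoh (P₂.X i))
    (b₁ b₂ : ℤ) (hb₁ : ∀ i, b₁ < i → IsZero (P₁.X i)) (hb₂ : ∀ i, b₂ < i → IsZero (P₂.X i))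
    (hfl : ∀ i, FlatMod.IsFlatOver f₁ (P₁.X i))
    (L₁ L₂ : DRing.Cx A) (hL₁ : ∀ i, Projective (L₁.X i)) (hL₂ : ∀ i, Projective (L₂.X i))
    (c₁ c₂ : ℤ) (hc₁ : DRing.VanishesAbove L₁ c₁) (hc₂ : DRing.VanishesAbove L₂ c₂)
    (e₁ : HTor.Computes f₁ L₁ (DCoh.toD X₁ P₁)) (e₂ : HTor.Computes f₂ L₂ (DCoh.toD X₂ P₂)) :
    HTor.Computes (p₁ ≫ f₁) (HTor.tensorCx L₁ L₂) (DCoh.toD X' (Ext.extCx p₁ p₂ P₁ P₂)) := by
  haveI : CompactSpace X₁ := QuasiCompact.compactSpace_of_compactSpace f₁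
  haveI : CompactSpace X₂ := QuasiCompact.compactSpace_of_compactSpace f₂
  haveI : QuasiSeparatedSpace X₂ := quasiSeparatedSpace_of_quasiSeparated f₂
  haveI : IsSeparated p₁ := MorphismProperty.of_isPullback (P := @IsSeparated) sq.flip inferInstance
  haveI : QuasiCompact p₁ := MorphismProperty.of_isPullback (P := @QuasiCompact) sq.flip inferInstance
  obtain ⟨N₁, U₁, hU₁, hcov₁⟩ := Acyc.exists_cover f₁
  obtain ⟨N₂, U₂, hU₂, hcov₂⟩ := Acyc.exists_cover f₂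
  obtain ⟨T₁, hT₁, -, hTb₁, ⟨d₁⟩, s, hs⟩ := Bounded.exists_model f₁ (Acyc.extra_flat f₁) N₁
    (fun M _ i hi => Acyc.subsingleton_of_cover f₁ N₁ U₁ hU₁ hcov₁ M i hi) P₁ hq₁ hfl
  obtain ⟨T₂, hT₂, -, hTb₂, ⟨d₂⟩, t, ht⟩ := Bounded.exists_model f₂ Acyc.extra_true N₂
    (fun M _ i hi => Acyc.subsingleton_of_cover f₂ N₂ U₂ hU₂ hcov₂ M i hi) P₂ hq₂ (fun _ => trivial)
  haveI := hs
  haveI := ht
  have hT₁b := hTb₁ b₁ hb₁
  have hT₂b := hTb₂ b₂ hb₂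
  haveI : QuasiIso (Ext.extMap p₁ p₂ s t) := Ext.quasiIso_extMap f₁ f₂ p₁ p₂ sq s t (b₁ + N₁) (b₂ + N₂)
    (fun i hi => hb₁ i (by omega)) hT₁b (fun i hi => hb₂ i (by omega)) hT₂b hq₁ (fun i => (hT₁ i).qcoh) hq₂
    (fun i => (hT₂ i).qcoh) hfl (fun i => (hT₁ i).extra)
  obtain ⟨eT⟩ := computes (p₁ ≫ f₁) (Ext.extCx p₁ p₂ T₁ T₂)
    (Ext.mem_extCx p₁ p₂ Ext.adm_isQCoh (b₁ + N₁) (b₂ + N₂) hT₁b hT₂b fun i j =>
      haveI := (hT₁ i).qcoh; haveI := (hT₂ j).qcoh; Ext.isQCoh_Bx p₁ p₂ _ _)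
    (fun n => Ext.mem_extCx p₁ p₂ Ext.adm_acyc (b₁ + N₁) (b₂ + N₂) hT₁b hT₂b (fun i j =>
      haveI := (hT₁ i).qcoh; haveI := (hT₂ j).qcoh
      Ext.acyc_Bx f₁ f₂ p₁ p₂ sq _ _ (hT₁ i).extra (hT₁ i).acyc (hT₂ j).acyc) n)
  obtain ⟨e₁⟩ := e₁
  obtain ⟨e₂⟩ := e₂
  obtain ⟨l₁, hl₁⟩ := exists_quasiIso L₁ hL₁ c₁ hc₁ (e₁ ≪≫ d₁.symm ≪≫
    DerivedCategory.Q.mapIso (topIsoCx f₁ T₁).symm)
  obtain ⟨l₂, hl₂⟩ := exists_quasiIso L₂ hL₂ c₂ hc₂ (e₂ ≪≫ d₂.symm ≪≫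
    DerivedCategory.Q.mapIso (topIsoCx f₂ T₂).symm)
  haveI := hl₁
  haveI := hl₂
  haveI : ∀ i, Module.Flat A (L₁.X i) := fun i =>
    haveI : Module.Projective A (L₁.X i) := (IsProjective.iff_projective _).2 (hL₁ i)
    inferInstance
  haveI : ∀ i, Module.Flat A (((secCx (Coh.toGlobal f₁) ⊤).obj T₁).X i) := fun i => by
    haveI := (hT₁ i).qcoh
    haveI := BaseChange.flat_Γ f₁ (T₁.X i) (hT₁ i).extra (hT₁ i).acyc
    exact Module.Flat.of_linearEquiv ((topIso f₁).app (T₁.X i)).toLinearEquiv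
  let M₁ := max c₁ (b₁ + N₁)
  let M₂ := max c₂ (b₂ + N₂)
  haveI : QuasiIso (HomologicalComplex.tensorHom l₁ l₂) := Ext.quasiIso_tensorHom l₁ l₂ M₁ M₂
    (fun i hi => hc₁ i (by omega)) (fun i hi => (secF _ _).map_isZero (hT₁b i (by omega)))
    (fun i hi => hc₂ i (by omega)) (fun i hi => (secF _ _).map_isZero (hT₂b i (by omega)))
  haveI := Ext.isIso_comp f₁ f₂ p₁ p₂ sq ⊤ ⊤ (p₂ ⁻¹ᵁ ⊤) (fun _ _ => trivial) le_rfl T₁ T₂ (b₁ + N₁) (b₂ + N₂)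
    hT₁b hT₂b (fun i j => haveI := (hT₁ i).qcoh; haveI := (hT₂ j).qcoh
      Pairing.bijective_top f₁ f₂ p₁ p₂ sq _ _ (hT₁ i).extra (hT₁ i).acyc isCompact_univ)
  exact ⟨asIso (DerivedCategory.Q.map (HomologicalComplex.tensorHom l₁ l₂)) ≪≫
    DerivedCategory.Q.mapIso (asIso (Ext.comp f₁ f₂ p₁ p₂ sq ⊤ ⊤ (p₂ ⁻¹ᵁ ⊤) (fun _ _ => trivial) le_rfl T₁ T₂) ≪≫
      topIsoCx (p₁ ≫ f₁) (Ext.extCx p₁ p₂ T₁ T₂)) ≪≫ eT ≪≫
    (HTor.RΓA (p₁ ≫ f₁)).mapIso (asIso (DerivedCategory.Q.map (Ext.extMap p₁ p₂ s t))).symm⟩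

end Groth.L17.HTorRG.Kunneth
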