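import Groth.Agent.L17.HTor.CechBC
import Groth.Agent.L17.FlatPair.PairIso
import Groth.Agent.L17.FlatPair.CohTensor
import Groth.Agent.L17.Kun.Main
import Groth.Agent.L29.DCoh.TensorPerfect

/-!
Sections of the external tensor product of quasi-coherent modules over an affine base.
-/

set_option autoImplicit false
set_option linter.style.haveILetI false
set_option linter.unusedSectionVars false
set_option backward.isDefEq.respectTransparency false
set_option backward.isDefEq.respectTransparency.types false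

universe u

open CategoryTheory CategoryTheory.Limits AlgebraicGeometry TopologicalSpace Opposite
open scoped TensorProduct

noncomputable section

namespace Groth.L17.HTorRG.Pairing

open Groth.L18.Frame (rs ro pull rs_rs rs_self rs_smul ro_ro pull_rs pull_smul)
open Groth.L18.GenLoc (tens tens_rs tens_smul_left tens_smul_right)
open Groth.L17.FlatPair (tens_add_left tens_add_right exists_tensor_congr γ γ_tmul bijective_γ)
open Groth.L17.BC (Sec resL act)
open Groth.L17.DegZero (SecA)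

variable {A : Type u} [CommRing A] {X₁ X₂ X' : Scheme.{u}} (f₁ : X₁ ⟶ Spec (CommRingCat.of A))
  (f₂ : X₂ ⟶ Spec (CommRingCat.of A)) (p₁ : X' ⟶ X₁) (p₂ : X' ⟶ X₂) (sq : IsPullback p₁ p₂ f₁ f₂)
  (Z : X₁.Modules) (G : X₂.Modules)

/-- The external tensor product. -/
abbrev Bx : X'.Modules :=
  CohB1.tensorMod ((Scheme.Modules.pullback p₁).obj Z) ((Scheme.Modules.pullback p₂).obj G)

omit [CommRing A] in
theorem pull_add {Y Y' : Scheme.{u}} (g : Y' ⟶ Y) (M : Y.Modules) (W : Y.Opens) {O : Y'.Opens} (e : O ≤ g ⁻¹ᵁ W)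
    (s t : Γ(M, W)) : rs _ e (pull g M W (s + t)) = rs _ e (pull g M W s) + rs _ e (pull g M W t) :=
  (congrArg (rs _ e) (map_add (((Scheme.Modules.pullbackPushforwardAdjunction g).unit.app M).app W).hom s t)).trans
    (map_add _ _ _)

include sq in
theorem compat₂ (a : A) : p₂.appTop (Coh.toGlobal f₂ a) = Coh.toGlobal (p₁ ≫ f₁) a := by
  show (f₂.appTop ≫ p₂.appTop) _ = (p₁ ≫ f₁).appTop _
  rw [← Scheme.Hom.comp_appTop, sq.w]

theorem compat₁ (a : A) : p₁.appTop (Coh.toGlobal f₁ a) = Coh.toGlobal (p₁ ≫ f₁) a := by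
  show (f₁.appTop ≫ p₁.appTop) _ = (p₁ ≫ f₁).appTop _
  rw [← Scheme.Hom.comp_appTop]

/-- The pairing of sections. -/
def pair (W : X₁.Opens) (V : X₂.Opens) (O : X'.Opens) (e₁ : O ≤ p₁ ⁻¹ᵁ W) (e₂ : O ≤ p₂ ⁻¹ᵁ V) :
    Sec (Coh.toGlobal f₁) Z W ⊗[A] Sec (Coh.toGlobal f₂) G V →ₗ[A]
      Sec (Coh.toGlobal (p₁ ≫ f₁)) (Bx p₁ p₂ Z G) O :=
  TensorProduct.lift (LinearMap.mk₂ A
    (fun s t => (tens _ _ O (rs _ e₁ (pull p₁ Z W s)) (rs _ e₂ (pull p₂ G V t)) :
      Sec (Coh.toGlobal (p₁ ≫ f₁)) (Bx p₁ p₂ Z G) O))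
    (fun s s' t => (congrArg (fun a => tens _ _ O a _) (pull_add p₁ Z W e₁ s s')).trans (tens_add_left _ _ _ _ _ _))
    (fun a s t => by
      show tens _ _ O (rs _ e₁ (pull p₁ Z W (act (Coh.toGlobal f₁) W a • (show Γ(Z, W) from s)))) _ =
        act (Coh.toGlobal (p₁ ≫ f₁)) O a • tens _ _ O _ _
      rw [pull_smul, rs_smul, Groth.L17.BC.app_act p₁ _ _ e₁ a a (compat₁ f₁ p₁ a), tens_smul_left])
    (fun s t t' => (congrArg (tens _ _ O _) (pull_add p₂ G V e₂ t t')).trans (tens_add_right _ _ _ _ _ _))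
    (fun a s t => by
      show tens _ _ O _ (rs _ e₂ (pull p₂ G V (act (Coh.toGlobal f₂) V a • (show Γ(G, V) from t)))) =
        act (Coh.toGlobal (p₁ ≫ f₁)) O a • tens _ _ O _ _
      rw [pull_smul, rs_smul, Groth.L17.BC.app_act p₂ _ _ e₂ a a (compat₂ f₁ f₂ p₁ p₂ sq a), tens_smul_right]))

theorem pair_tmul (W : X₁.Opens) (V : X₂.Opens) (O : X'.Opens) (e₁ : O ≤ p₁ ⁻¹ᵁ W) (e₂ : O ≤ p₂ ⁻¹ᵁ V)
    (s : Sec (Coh.toGlobal f₁) Z W) (t : Sec (Coh.toGlobal f₂) G V) :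
    pair f₁ f₂ p₁ p₂ sq Z G W V O e₁ e₂ (s ⊗ₜ t) =
      tens ((Scheme.Modules.pullback p₁).obj Z) ((Scheme.Modules.pullback p₂).obj G) O
        (rs _ e₁ (pull p₁ Z W s)) (rs _ e₂ (pull p₂ G V t)) := rfl

theorem pair_res {W W' : X₁.Opens} {V V' : X₂.Opens} {O O' : X'.Opens} (hW : W' ≤ W) (hV : V' ≤ V) (hO : O' ≤ O)
    (e₁ : O ≤ p₁ ⁻¹ᵁ W) (e₂ : O ≤ p₂ ⁻¹ᵁ V) (e₁' : O' ≤ p₁ ⁻¹ᵁ W') (e₂' : O' ≤ p₂ ⁻¹ᵁ V')
    (z : Sec (Coh.toGlobal f₁) Z W ⊗[A] Sec (Coh.toGlobal f₂) G V) :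
    pair f₁ f₂ p₁ p₂ sq Z G W' V' O' e₁' e₂'
        (TensorProduct.map (resL (Coh.toGlobal f₁) Z hW) (resL (Coh.toGlobal f₂) G hV) z) =
      resL (Coh.toGlobal (p₁ ≫ f₁)) (Bx p₁ p₂ Z G) hO (pair f₁ f₂ p₁ p₂ sq Z G W V O e₁ e₂ z) := by
  induction z using TensorProduct.induction_on with
  | zero => simp only [map_zero]
  | add x y hx hy => simp only [map_add, hx, hy]
  | tmul s t =>
    rw [TensorProduct.map_tmul, pair_tmul, pair_tmul]
    show tens _ _ O' (rs _ e₁' (pull p₁ Z W' (rs Z hW s))) (rs _ e₂' (pull p₂ G V' (rs G hV t))) = rs _ hO _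
    rw [tens_rs, rs_rs, rs_rs, ← pull_rs p₁ Z hW, ← pull_rs p₂ G hV, rs_rs, rs_rs]

variable [Coh.IsQCoh Z] [Coh.IsQCoh G]

/-- On affine opens the pairing is bijective. -/
theorem bijective_affine {W : X₁.Opens} (hW : IsAffineOpen W) {V : X₂.Opens} (hV : IsAffineOpen V) :
    Function.Bijective (pair f₁ f₂ p₁ p₂ sq Z G W V (p₁ ⁻¹ᵁ W ⊓ p₂ ⁻¹ᵁ V) inf_le_left inf_le_right) := by
  let R := Γ(Spec (CommRingCat.of A), ⊤)
  let σ : A ≃+* R := (Scheme.ΓSpecIso (CommRingCat.of A)).symm.commRingCatIsoToRingEquiv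
  have eW : W ≤ f₁ ⁻¹ᵁ ⊤ := le_top
  have eV : V ≤ f₂ ⁻¹ᵁ ⊤ := le_top
  let eM : Sec (Coh.toGlobal f₁) Z W ≃+ SecA f₁ Z eW := AddEquiv.refl _
  let eN : Sec (Coh.toGlobal f₂) G V ≃+ SecA f₂ G eV := AddEquiv.refl _
  obtain ⟨e, he⟩ := exists_tensor_congr σ eM eN
    (fun a s => congrArg (fun c : Γ(X₁, W) => c • (show Γ(Z, W) from s)) (ConcreteCategory.congr_hom
      (show f₁.appTop ≫ X₁.presheaf.map (homOfLE le_top).op = f₁.appLE ⊤ W eW from rfl) (σ a)))
    (fun a s => congrArg (fun c : Γ(X₂, V) => c • (show Γ(G, V) from s)) (ConcreteCategory.congr_hom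
      (show f₂.appTop ≫ X₂.presheaf.map (homOfLE le_top).op = f₂.appLE ⊤ V eV from rfl) (σ a)))
  have hγ := bijective_γ f₂ f₁ p₂ p₁ sq.flip.w Z G eW sq.flip (isAffineOpen_top _) hW hV eV
  set O := p₁ ⁻¹ᵁ W ⊓ p₂ ⁻¹ᵁ V with hO
  have hle : O ≤ p₂ ⁻¹ᵁ V ⊓ p₁ ⁻¹ᵁ W := le_inf inf_le_right inf_le_left
  have hr : Function.Bijective (rs (Bx p₁ p₂ Z G) hle) := by
    have hge : p₂ ⁻¹ᵁ V ⊓ p₁ ⁻¹ᵁ W ≤ O := le_inf inf_le_right inf_le_left
    refine ⟨fun a b hab => ?_, fun b => ⟨rs _ hge b, by rw [rs_rs, rs_self]⟩⟩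
    have := congrArg (rs (Bx p₁ p₂ Z G) hge) hab
    rwa [rs_rs, rs_rs, rs_self, rs_self] at this
  have key : ∀ z, pair f₁ f₂ p₁ p₂ sq Z G W V O inf_le_left inf_le_right z =
      rs (Bx p₁ p₂ Z G) hle (γ f₂ f₁ p₂ p₁ sq.flip.w Z G eW eV _ inf_le_left inf_le_right (e z)) := fun z => by
    induction z using TensorProduct.induction_on with
    | zero => simp only [map_zero]
    | add a b ha hb => simp only [map_add, ha, hb]
    | tmul s t =>
      rw [he, γ_tmul, pair_tmul]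
      refine Eq.trans ?_ (tens_rs hle _ _).symm
      rw [rs_rs, rs_rs]
      rfl
  rw [show ⇑(pair f₁ f₂ p₁ p₂ sq Z G W V O inf_le_left inf_le_right) = _ from funext key]
  exact hr.comp (hγ.comp e.bijective)

variable [QuasiSeparatedSpace X₂]

/-- One affine factor, flat over the base. -/
theorem bijective_left {W : X₁.Opens} (hW : IsAffineOpen W) [Module.Flat A (Sec (Coh.toGlobal f₁) Z W)]
    {V : X₂.Opens} (hV : IsCompact (V : Set X₂)) :
    Function.Bijective (pair f₁ f₂ p₁ p₂ sq Z G W V (p₁ ⁻¹ᵁ W ⊓ p₂ ⁻¹ᵁ V) inf_le_left inf_le_right) := by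
  refine SchemeTheta.qc_induction (fun V => Function.Bijective
    (pair f₁ f₂ p₁ p₂ sq Z G W V (p₁ ⁻¹ᵁ W ⊓ p₂ ⁻¹ᵁ V) inf_le_left inf_le_right))
    (fun V hV => bijective_affine f₁ f₂ p₁ p₂ sq Z G hW hV) (fun U V hU hV hI => ?_) hV
  set M := Sec (Coh.toGlobal f₁) Z W
  set ρ₂ := Coh.toGlobal f₂
  set ρ' := Coh.toGlobal (p₁ ≫ f₁)
  set P := Bx p₁ p₂ Z G
  let O : X₂.Opens → X'.Opens := fun T => p₁ ⁻¹ᵁ W ⊓ p₂ ⁻¹ᵁ T
  have hmono : ∀ {T T' : X₂.Opens}, T' ≤ T → O T' ≤ O T := fun h => inf_le_inf_left _ (p₂.preimage_mono h)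
  let b := fun T => pair f₁ f₂ p₁ p₂ sq Z G W T (O T) inf_le_left inf_le_right
  have hnat : ∀ {T T' : X₂.Opens} (h : T' ≤ T) (z), b T' ((resL ρ₂ G h).lTensor M z) =
      resL ρ' P (hmono h) (b T z) := fun {T T'} h z => by
    rw [← pair_res f₁ f₂ p₁ p₂ sq Z G (W' := W) (V' := T') le_rfl h (hmono h) inf_le_left inf_le_right
      inf_le_left inf_le_right z]
    refine congrArg (b T') (LinearMap.congr_fun (show (resL ρ₂ G h).lTensor M = _ from ?_) z)
    exact TensorProduct.ext' fun s t => congrArg (· ⊗ₜ[A] resL ρ₂ G h t) (rs_self Z le_rfl s).symm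
  let r : Sec ρ₂ G (U ⊔ V) →ₗ[A] Sec ρ₂ G U × Sec ρ₂ G V :=
    (resL ρ₂ G le_sup_left).prod (resL ρ₂ G le_sup_right)
  let d : Sec ρ₂ G U × Sec ρ₂ G V →ₗ[A] Sec ρ₂ G (U ⊓ V) :=
    (resL ρ₂ G inf_le_left).comp (LinearMap.fst A _ _) - (resL ρ₂ G inf_le_right).comp (LinearMap.snd A _ _)
  have hglue : ∀ {T : Scheme.{u}} (Q : T.Modules) {U V : T.Opens} (a : Γ(Q, U)) (b : Γ(Q, V)),
      rs Q (inf_le_left : U ⊓ V ≤ U) a = rs Q inf_le_right b →
      ∃ s : Γ(Q, U ⊔ V), rs Q le_sup_left s = a ∧ rs Q le_sup_right s = b := fun {T} Q U V a b hab => by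
    obtain ⟨s, hs, -⟩ := TopCat.Sheaf.existsUnique_gluing' (⟨Q.presheaf, Q.isSheaf⟩ : TopCat.Sheaf AddCommGrpCat.{u} T.toTopCat)
      (fun i : ULift.{u} Bool => bif i.down then U else V) (U ⊔ V)
      (fun i => homOfLE (by cases i with | up i => cases i <;> simp))
      (sup_le (le_iSup_of_le ⟨true⟩ le_rfl) (le_iSup_of_le ⟨false⟩ le_rfl))
      (fun i => match i with | ⟨true⟩ => a | ⟨false⟩ => b) (fun i j => by
        rcases i with ⟨_ | _⟩ <;> rcases j with ⟨_ | _⟩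
        · rfl
        · show rs Q _ b = rs Q _ a
          have h := congrArg (rs Q (le_inf inf_le_right inf_le_left : V ⊓ U ≤ U ⊓ V)) hab
          rw [rs_rs, rs_rs] at h
          exact h.symm
        · exact hab
        · rfl)
    exact ⟨s, hs ⟨true⟩, hs ⟨false⟩⟩
  have hext : ∀ {T : Scheme.{u}} (Q : T.Modules) {U V : T.Opens} (a b : Γ(Q, U ⊔ V)),
      rs Q le_sup_left a = rs Q le_sup_left b → rs Q le_sup_right a = rs Q le_sup_right b → a = b :=
    fun {T} Q U V a b h h' => TopCat.Sheaf.eq_of_locally_eq'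
      (⟨Q.presheaf, Q.isSheaf⟩ : TopCat.Sheaf AddCommGrpCat.{u} T.toTopCat)
      (fun i : ULift.{u} Bool => bif i.down then U else V) (U ⊔ V)
      (fun i => homOfLE (by cases i with | up i => cases i <;> simp))
      (sup_le (le_iSup_of_le ⟨true⟩ le_rfl) (le_iSup_of_le ⟨false⟩ le_rfl)) a b
      (fun i => by rcases i with ⟨_ | _⟩ <;> assumption)
  have hr : Function.Injective r := fun a b h => hext G a b (congrArg Prod.fst h) (congrArg Prod.snd h)
  have hrd : Function.Exact r d := fun y => by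
    refine ⟨fun h => ?_, ?_⟩
    · obtain ⟨s, h1, h2⟩ := hglue G y.1 y.2 (sub_eq_zero.1 h)
      exact ⟨s, Prod.ext h1 h2⟩
    · rintro ⟨s, rfl⟩
      exact sub_eq_zero.2 ((rs_rs G _ _ s).trans (rs_rs G _ _ s).symm)
  have hex := Module.Flat.lTensor_exact M hrd
  have hrI := Module.Flat.lTensor_preserves_injective_linearMap (M := M) r hr
  let π := TensorProduct.prodRight A A M (Sec ρ₂ G U) (Sec ρ₂ G V)
  have hπ : ∀ z, π (r.lTensor M z) = ((resL ρ₂ G le_sup_left).lTensor M z, (resL ρ₂ G le_sup_right).lTensor M z) :=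
    fun z => by
      induction z using TensorProduct.induction_on with
      | zero => simp only [map_zero]; rfl
      | add x y hx hy => simp only [map_add, hx, hy, Prod.mk_add_mk]
      | tmul s t => simp [π, r]
  have hπd : ∀ z, d.lTensor M z = (resL ρ₂ G inf_le_left).lTensor M (π z).1 -
      (resL ρ₂ G inf_le_right).lTensor M (π z).2 := fun z => by
    induction z using TensorProduct.induction_on with
    | zero => simp
    | add x y hx hy => simp only [map_add, hx, hy, Prod.fst_add, Prod.snd_add]; abel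
    | tmul s t => simp [π, d, TensorProduct.tmul_sub]
  have hsup : O (U ⊔ V) ≤ O U ⊔ O V := by
    intro x hx
    rcases (show p₂ x ∈ U ⊔ V from hx.2) with h | h
    · exact Or.inl ⟨hx.1, h⟩
    · exact Or.inr ⟨hx.1, h⟩
  constructor
  · intro x y hxy
    refine hrI (π.injective ?_)
    rw [hπ, hπ]
    exact Prod.ext (hU.1 ((hnat le_sup_left x).trans ((congrArg _ hxy).trans (hnat le_sup_left y).symm)))
      (hV.1 ((hnat le_sup_right x).trans ((congrArg _ hxy).trans (hnat le_sup_right y).symm)))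
  · intro y
    obtain ⟨zU, hzU⟩ := hU.2 (resL ρ' P (hmono le_sup_left) y)
    obtain ⟨zV, hzV⟩ := hV.2 (resL ρ' P (hmono le_sup_right) y)
    have h0 : d.lTensor M (π.symm (zU, zV)) = 0 := by
      rw [hπd, π.apply_symm_apply, sub_eq_zero]
      refine hI.1 ((hnat inf_le_left zU).trans (Eq.trans ?_ (hnat inf_le_right zV).symm))
      exact (congrArg (resL ρ' P _) hzU).trans (((rs_rs P _ _ y).trans (rs_rs P _ _ y).symm).trans
        (congrArg (resL ρ' P _) hzV).symm)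
    obtain ⟨z, hz⟩ := (hex _).1 h0
    have hz' := (hπ z).symm.trans ((congrArg π hz).trans (π.apply_symm_apply _))
    refine ⟨z, ?_⟩
    have h1 : resL ρ' P (hmono le_sup_left) (b (U ⊔ V) z) = resL ρ' P (hmono le_sup_left) y := by
      rw [← hnat le_sup_left, show (resL ρ₂ G le_sup_left).lTensor M z = zU from congrArg Prod.fst hz']; exact hzU
    have h2 : resL ρ' P (hmono le_sup_right) (b (U ⊔ V) z) = resL ρ' P (hmono le_sup_right) y := by
      rw [← hnat le_sup_right, show (resL ρ₂ G le_sup_right).lTensor M z = zV from congrArg Prod.snd hz']; exact hzV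
    have h := hext P (U := O U) (V := O V) (rs P (sup_le (hmono le_sup_left) (hmono le_sup_right)) (b (U ⊔ V) z))
      (rs P (sup_le (hmono le_sup_left) (hmono le_sup_right)) y)
      ((rs_rs P _ _ _).trans (h1.trans (rs_rs P _ _ _).symm))
      ((rs_rs P _ _ _).trans (h2.trans (rs_rs P _ _ _).symm))
    have h' := congrArg (rs P hsup) h
    rwa [rs_rs, rs_rs, rs_self, rs_self] at h'

variable [CompactSpace X₁] [IsSeparated f₁] [QuasiCompact f₁]

open Groth.L01.FlatCx in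
/-- Global sections. -/
theorem bijective_top (hfl : FlatMod.IsFlatOver f₁ Z) (hH : Acyc.IsAcyc Z) {V : X₂.Opens}
    (hV : IsCompact (V : Set X₂)) :
    Function.Bijective (pair f₁ f₂ p₁ p₂ sq Z G ⊤ V (p₂ ⁻¹ᵁ V) (fun _ _ => trivial) le_rfl) := by
  haveI : X₁.IsSeparated := ⟨by rw [← terminal.comp_from f₁]; infer_instance⟩
  obtain ⟨t, U, hcov, haff⟩ := Groth.L17.BC.exists_affine_cover (X := X₁)
  set ρ₁ := Coh.toGlobal f₁
  set ρ' := Coh.toGlobal (p₁ ≫ f₁)
  set N := Sec (Coh.toGlobal f₂) G V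
  set P := Bx p₁ p₂ Z G
  obtain ⟨hrd, hi⟩ := CechBC.exact_tensor f₁ Z hfl hH U hcov haff (ModuleCat.of A N)
  haveI : ∀ i, Fintype (Groth.L17.BC.Idx (ULift.{u} (Fin t)) i) := fun i => by
    haveI := Groth.L17.BC.finite_idx (ι := ULift.{u} (Fin t)) i
    exact Fintype.ofFinite _
  classical
  let O : X₁.Opens → X'.Opens := fun T => p₁ ⁻¹ᵁ T ⊓ p₂ ⁻¹ᵁ V
  have hmono : ∀ {T T' : X₁.Opens}, T' ≤ T → O T' ≤ O T := fun h => inf_le_inf_right _ (p₁.preimage_mono h)
  let b := fun T => pair f₁ f₂ p₁ p₂ sq Z G T V (O T) inf_le_left inf_le_right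
  have hnat : ∀ {T T' : X₁.Opens} (h : T' ≤ T) (z), b T' ((resL ρ₁ Z h).rTensor N z) =
      resL ρ' P (hmono h) (b T z) := fun {T T'} h z => by
    rw [← pair_res f₁ f₂ p₁ p₂ sq Z G (W' := T') (V' := V) h le_rfl (hmono h) inf_le_left inf_le_right
      inf_le_left inf_le_right z]
    refine congrArg (b T') (LinearMap.congr_fun (show (resL ρ₁ Z h).rTensor N = _ from ?_) z)
    exact TensorProduct.ext' fun s t => congrArg (resL ρ₁ Z h s ⊗ₜ[A] ·) (rs_self G le_rfl t).symm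
  have hb : ∀ {i : ℤ} (a : Groth.L17.BC.Idx (ULift.{u} (Fin t)) i),
      Function.Bijective (b (Groth.L17.BC.opn U a.1)) := fun {i} a => by
    have hW := Groth.L17.BC.isAffineOpen_opn U haff a
    haveI := Groth.L17.BC.flat_sec f₁ Z hfl hW
    exact bijective_left f₁ f₂ p₁ p₂ sq Z G hW hV
  let π := fun i : ℤ => TensorProduct.piLeft (R := A)
    (M := fun a : Groth.L17.BC.Idx (ULift.{u} (Fin t)) i => Sec ρ₁ Z (Groth.L17.BC.opn U a.1)) (N := N)
  have hπ : ∀ (i : ℤ) (x : Groth.L17.BC.C ρ₁ Z U i) (n : N) (a), π i (x ⊗ₜ n) a = x a ⊗ₜ n := fun i x n a => by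
    simp [π, TensorProduct.piLeft]
  have hr : ∀ z a, π 0 ((CechBC.r ρ₁ Z U).rTensor N z) a = (resL ρ₁ Z le_top).rTensor N z := fun z a => by
    induction z using TensorProduct.induction_on with
    | zero => simp
    | add x y hx hy => simp only [map_add, Pi.add_apply, hx, hy]
    | tmul x n => rw [LinearMap.rTensor_tmul, hπ, LinearMap.rTensor_tmul]; rfl
  have hd : ∀ z a, π (0 + 1) ((Groth.L17.BC.dL ρ₁ Z U 0).rTensor N z) a =
      ∑ k : Fin a.1.length, ((-1 : ℤ) ^ k.1) • (resL ρ₁ Z (Groth.L17.BC.opn_le_erase U a.1 k.1)).rTensor N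
        (π 0 z ⟨a.1.eraseIdx k.1, Groth.L17.BC.length_erase le_rfl a k⟩) := fun z a => by
    induction z using TensorProduct.induction_on with
    | zero => simp only [map_zero, Pi.zero_apply, smul_zero, Finset.sum_const_zero]
    | add x y hx hy => simp only [map_add, Pi.add_apply, hx, hy, smul_add, Finset.sum_add_distrib]
    | tmul x n =>
      rw [LinearMap.rTensor_tmul, hπ, Groth.L17.BC.dL_apply ρ₁ Z U le_rfl, TensorProduct.sum_tmul]
      refine Finset.sum_congr rfl fun k _ => ?_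
      rw [hπ, LinearMap.rTensor_tmul, TensorProduct.smul_tmul']
  have hcov' : p₂ ⁻¹ᵁ V ≤ ⨆ i, O (U i) := fun x hx => by
    obtain ⟨i, hi⟩ := Opens.mem_iSup.1 (hcov.ge (Opens.mem_top (p₁ x)))
    exact Opens.mem_iSup.2 ⟨i, hi, hx⟩
  have hO : p₂ ⁻¹ᵁ V ≤ O ⊤ := le_inf (fun _ _ => trivial) le_rfl
  have h0 : ∀ z, pair f₁ f₂ p₁ p₂ sq Z G ⊤ V (p₂ ⁻¹ᵁ V) (fun _ _ => trivial) le_rfl z = rs P hO (b ⊤ z) :=
    fun z => by
      refine Eq.trans (congrArg _ ?_) (pair_res f₁ f₂ p₁ p₂ sq Z G le_rfl le_rfl hO inf_le_left inf_le_right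
        (fun _ _ => trivial) le_rfl z)
      rw [show resL ρ₁ Z (le_refl ⊤) = LinearMap.id from LinearMap.ext fun s => rs_self Z le_rfl s,
        show resL (Coh.toGlobal f₂) G (le_refl V) = LinearMap.id from LinearMap.ext fun s => rs_self G le_rfl s,
        TensorProduct.map_id]
      rfl
  constructor
  · intro x y hxy
    rw [h0, h0] at hxy
    refine hi ((π 0).injective (funext fun a => ?_))
    rw [hr, hr]
    refine (hb a).1 ?_
    rw [hnat, hnat]
    have := congrArg (rs P (inf_le_right : O (Groth.L17.BC.opn U a.1) ≤ p₂ ⁻¹ᵁ V)) hxy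
    rwa [rs_rs, rs_rs] at this
  · intro y
    choose za hza using fun a : Groth.L17.BC.Idx (ULift.{u} (Fin t)) 0 => (hb a).2 (rs P inf_le_right y)
    have h0' : (Groth.L17.BC.dL ρ₁ Z U 0).rTensor N ((π 0).symm za) = 0 := by
      refine (π (0 + 1)).injective (funext fun a => ?_)
      rw [hd, LinearEquiv.apply_symm_apply, map_zero, Pi.zero_apply]
      refine (hb a).1 ?_
      let y' : Sec ρ' P (O (Groth.L17.BC.opn U a.1)) := rs P inf_le_right y
      have hk : ∀ k : Fin a.1.length, b (Groth.L17.BC.opn U a.1)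
          ((resL ρ₁ Z (Groth.L17.BC.opn_le_erase U a.1 k.1)).rTensor N
            (za ⟨a.1.eraseIdx k.1, Groth.L17.BC.length_erase le_rfl a k⟩)) = y' := fun k => by
        refine (hnat (Groth.L17.BC.opn_le_erase U a.1 k.1) _).trans ?_
        exact (congrArg (resL ρ' P _) (hza ⟨a.1.eraseIdx k.1, Groth.L17.BC.length_erase le_rfl a k⟩)).trans
          (rs_rs P _ _ y)
      have hl : a.1.length = 2 := by have := a.2.1; omega
      rw [map_sum, map_zero]
      simp only [map_zsmul, hk]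
      rw [← (finCongr hl).symm.sum_comp, Fin.sum_univ_two]
      simp
    obtain ⟨z, hz⟩ := (hrd _).1 h0'
    refine ⟨z, (h0 z).trans ?_⟩
    refine TopCat.Sheaf.eq_of_locally_eq' (⟨P.presheaf, P.isSheaf⟩ : TopCat.Sheaf AddCommGrpCat.{u} X'.toTopCat)
      (fun i => O (U i)) _ (fun i => homOfLE inf_le_right) hcov' _ _ fun i => ?_
    have hle := CechBC.le_opn_sing U i
    have := congrFun ((congrArg (π 0) hz).trans ((π 0).apply_symm_apply za)) (CechBC.sing i)
    rw [hr] at this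
    have h := congrArg (rs P (hmono hle)) ((congrArg (b _) this).trans (hza (CechBC.sing i)))
    rw [hnat] at h
    show rs P _ (rs P hO (b ⊤ z)) = rs P _ y
    change rs P (hmono hle) (rs P _ (b ⊤ z)) = rs P (hmono hle) (rs P _ y) at h
    rw [rs_rs, rs_rs] at h
    rw [rs_rs]
    exact h

end Groth.L17.HTorRG.Pairing
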