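import Groth.Agent.L17.HTor.Kunneth
import Groth.Agent.L17.AffineVanishing

/-!
Tensoring with a complex of modules over the affine base.
-/

set_option autoImplicit false
set_option linter.style.haveILetI false
set_option linter.unusedSectionVars false
set_option backward.defeqAttrib.useBackward true
set_option backward.isDefEq.respectTransparency false
set_option backward.isDefEq.respectTransparency.types false

universe u

open CategoryTheory CategoryTheory.Limits MonoidalCategory AlgebraicGeometry TopologicalSpace Opposite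

attribute [local instance] HasDerivedCategory.standard

noncomputable section

namespace Groth.L17.HTorRG.TensorA

local notation "cc" => ComplexShape.up ℤ

variable {A : Type u} [CommRing A]

/-- Global sections of a tilde. -/
def ΓtildeIso : tilde.functor (CommRingCat.of A) ⋙ HTor.globalSectionsA (𝟙 (Spec (CommRingCat.of A))) ≅ 𝟭 _ :=
  Functor.isoWhiskerLeft _ (Functor.isoWhiskerRight (Scheme.Modules.pushforwardId _) _ ≪≫ Functor.leftUnitor _) ≪≫
    (@asIso _ _ _ _ (tilde.adjunction (R := CommRingCat.of A)).unit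
      (haveI := (tilde.fullyFaithfulFunctor (R := CommRingCat.of A)).full
       haveI := (tilde.fullyFaithfulFunctor (R := CommRingCat.of A)).faithful
       Adjunction.unit_isIso_of_L_fully_faithful _)).symm

theorem computes_of_eq {X : Scheme.{u}} (f g : X ⟶ Spec (CommRingCat.of A)) (h : g = f) [HTor.HasRΓA f]
    [HTor.HasRΓA g] {L : DRing.Cx A} {K : DCoh.D X} (e : HTor.Computes g L K) : HTor.Computes f L K := by
  subst h; exact e

theorem hasRΓA {X : Scheme.{u}} (f : X ⟶ Spec (CommRingCat.of A)) : HTor.HasRΓA f :=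
  haveI := Groth.L29.DC.QRlim.enoughKInj X
  Groth.L10.KInjDerived.hasRightDerivedFunctor (HTor.gammaAKh f)

/-- Tensoring with a complex of modules over the base. -/
theorem computes_tensorA {X : Scheme.{u}} (f : X ⟶ Spec (CommRingCat.of A)) [QuasiCompact f] [IsSeparated f]
    [HTor.HasRΓA f] (P : CochainComplex X.Modules ℤ) (hq : ∀ i, Coh.IsQCoh (P.X i)) (b : ℤ)
    (hb : ∀ i, b < i → IsZero (P.X i)) (hfl : ∀ i, FlatMod.IsFlatOver f (P.X i))
    (L : DRing.Cx A) (hL : ∀ i, Projective (L.X i)) (bL : ℤ) (hLb : DRing.VanishesAbove L bL)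
    (e : HTor.Computes f L (DCoh.toD X P)) (Q : DRing.Cx A) (bQ : ℤ) (hQ : DRing.VanishesAbove Q bQ) :
    HTor.Computes f (HTor.tensorCx L Q) (DCoh.toD X (HTor.tensorACx f P Q)) := by
  let S := Spec (CommRingCat.of A)
  haveI := hasRΓA (𝟙 S)
  haveI : HTor.HasRΓA (𝟙 X ≫ f) := hasRΓA _
  let tQ := ((tilde.functor (CommRingCat.of A)).mapHomologicalComplex cc).obj Q
  have hqQ : ∀ i, Coh.IsQCoh (tQ.X i) := fun i => Groth.L18.TildeF.isQCoh_tilde (R := CommRingCat.of A) (Q.X i)
  obtain ⟨eQ⟩ := computes (𝟙 S) tQ hqQ (fun i n => haveI := hqQ i; Groth.L17.subsingleton_HH_of_isAffine S _ n)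
  obtain ⟨F, r, hF, hfree, hr⟩ := Groth.L02.PC.exists_free_resolution Q bQ hQ
  haveI := hr
  let eQ' : Q ≅ ((HTor.globalSectionsA (𝟙 S)).mapHomologicalComplex cc).obj tQ :=
    ((NatIso.mapHomologicalComplex (ΓtildeIso (A := A)) cc).app Q).symm ≪≫ Iso.refl _
  have hFp : ∀ i, Projective (F.X i) := fun i =>
    haveI := hfree i
    (IsProjective.iff_projective _).1 (Module.Projective.of_free (R := A) (P := F.X i))
  have h := Kunneth.computes_ext f (𝟙 S) (𝟙 X) f (IsPullback.of_horiz_isIso ⟨by simp⟩) P tQ hq hqQ b bQ hb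
    (fun i hi => (tilde.functor (CommRingCat.of A)).map_isZero (hQ i hi)) hfl L F hL hFp bL bQ hLb hF e
    ⟨asIso (DerivedCategory.Q.map r) ≪≫ DerivedCategory.Q.mapIso eQ' ≪≫ eQ⟩
  obtain ⟨h'⟩ := computes_of_eq f (𝟙 X ≫ f) (Category.id_comp f) h
  let eP : (HTor.pullCx (𝟙 X)).obj P ≅ P := (NatIso.mapHomologicalComplex (Scheme.Modules.pullbackId X) cc).app P ≪≫
    HomologicalComplex.Hom.isoOfComponents fun i => Iso.refl _
  haveI : ∀ i, Module.Flat A (L.X i) := fun i =>
    haveI : Module.Projective A (L.X i) := (IsProjective.iff_projective _).2 (hL i)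
    inferInstance
  haveI : QuasiIso (HomologicalComplex.tensorHom (𝟙 L) r) :=
    Groth.L28.TensorQis.quasiIso L r bL bQ hLb hF hQ
  exact ⟨(asIso (DerivedCategory.Q.map (HomologicalComplex.tensorHom (𝟙 L) r))).symm ≪≫ h' ≪≫
    (HTor.RΓA f).mapIso (DerivedCategory.Q.mapIso ((DCoh.tensorCx.mapIso eP).app ((HTor.pullCx f).obj tQ)))⟩

end Groth.L17.HTorRG.TensorA
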